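import Cfsg.Agent.ExtraExt.Setting

/-!
# Intertwiners of the faithful representation

`Intw ρ g T`: `T` carries `ρ e` to `ρ (g e g⁻¹)`. Intertwiners are unique up to scalars, and for
`g` without fixed points on `E / ⟨z⟩` the traces of an intertwiner and its inverse multiply to `1`.
-/

set_option autoImplicit false
set_option linter.style.haveILetI false
set_option linter.unusedSectionVars false

namespace CfsgLib.ExtraExt

open Subgroup CfsgLib.Characters

universe u

variable {G : Type u} [Group G]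

/-- `g` and `g'` act alike on `E`. -/
def SameOn (E : Subgroup G) (g g' : G) : Prop := ∀ e ∈ E, g * e * g⁻¹ = g' * e * g'⁻¹

namespace SameOn

variable {E : Subgroup G}

theorem refl (g : G) : SameOn E g g := fun _ _ => rfl

theorem symm {g g' : G} (h : SameOn E g g') : SameOn E g' g := fun e he => (h e he).symm

theorem trans {g g' g'' : G} (h : SameOn E g g') (h' : SameOn E g' g'') : SameOn E g g'' :=
  fun e he => (h e he).trans (h' e he)

theorem mul {g g' h h' : G} (hg : SameOn E g g') (hh : SameOn E h h')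
    (hN : h ∈ normalizer (E : Set G)) : SameOn E (g * h) (g' * h') := fun e he => by
  have h1 : h * e * h⁻¹ ∈ E := (mem_normalizer_iff.mp hN e).mp he
  calc g * h * e * (g * h)⁻¹ = g * (h * e * h⁻¹) * g⁻¹ := by group
    _ = g' * (h' * e * h'⁻¹) * g'⁻¹ := by rw [hg _ h1, hh e he]
    _ = g' * h' * e * (g' * h')⁻¹ := by group

theorem pow {g g' : G} (hg : SameOn E g g') (hN : g ∈ normalizer (E : Set G)) :
    ∀ n : ℕ, SameOn E (g ^ n) (g' ^ n)
  | 0 => by rw [pow_zero, pow_zero]; exact refl 1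
  | n + 1 => by
    rw [pow_succ, pow_succ]
    exact (pow hg hN n).mul hg hN

end SameOn

/-- `T` intertwines `ρ` with its conjugate by `g`. -/
def Intw {E : Subgroup G} {d : ℕ} (ρ : Representation ℂ E (Fin d → ℂ)) (g : G)
    (T : Module.End ℂ (Fin d → ℂ)) : Prop :=
  ∀ e e' : E, (e' : G) = g * e * g⁻¹ → T * ρ e = ρ e' * T

namespace Intw

variable {E : Subgroup G} {d : ℕ} {ρ : Representation ℂ E (Fin d → ℂ)}

theorem one : Intw ρ 1 1 := fun e e' h => by
  rw [one_mul, mul_one, show e' = e from Subtype.ext (by simpa using h)]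

theorem congr {g g' : G} {T : Module.End ℂ (Fin d → ℂ)} (hT : Intw ρ g T)
    (h : SameOn E g g') : Intw ρ g' T := fun e e' he => hT e e' (he.trans (h e e.2).symm)

theorem smul {g : G} {T : Module.End ℂ (Fin d → ℂ)} (hT : Intw ρ g T) (c : ℂ) :
    Intw ρ g (c • T) := fun e e' he => by
  rw [smul_mul_assoc, hT e e' he, mul_smul_comm]

theorem mul {g h : G} {T U : Module.End ℂ (Fin d → ℂ)} (hh : h ∈ normalizer (E : Set G))
    (hT : Intw ρ g T) (hU : Intw ρ h U) : Intw ρ (g * h) (T * U) := fun e e' he => by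
  have h1 : h * e * h⁻¹ ∈ E := (mem_normalizer_iff.mp hh e).mp e.2
  rw [mul_assoc, hU e ⟨_, h1⟩ rfl, ← mul_assoc, hT ⟨_, h1⟩ e' (by rw [he]; group), mul_assoc]

theorem pow {g : G} {T : Module.End ℂ (Fin d → ℂ)} (hg : g ∈ normalizer (E : Set G))
    (hT : Intw ρ g T) : ∀ n : ℕ, Intw ρ (g ^ n) (T ^ n)
  | 0 => by rw [pow_zero, pow_zero]; exact one
  | n + 1 => by
    rw [pow_succ, pow_succ]
    exact mul hg (pow hg hT n) hT

theorem inv {g : G} {T : (Module.End ℂ (Fin d → ℂ))ˣ} (hg : g ∈ normalizer (E : Set G))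
    (hT : Intw ρ g T) : Intw ρ g⁻¹ (↑T⁻¹ : Module.End ℂ (Fin d → ℂ)) := fun e e' he => by
  have h1 : (e : G) = g * e' * g⁻¹ := by rw [he]; group
  have h2 := hT e' e h1
  calc (↑T⁻¹ : Module.End ℂ (Fin d → ℂ)) * ρ e
      = ↑T⁻¹ * (ρ e * ↑T) * ↑T⁻¹ := by rw [mul_assoc, mul_assoc, Units.mul_inv, mul_one]
    _ = ↑T⁻¹ * (↑T * ρ e') * ↑T⁻¹ := by rw [h2]
    _ = ρ e' * ↑T⁻¹ := by rw [← mul_assoc (↑T⁻¹ : Module.End ℂ (Fin d → ℂ)), Units.inv_mul, one_mul]

theorem rho (e : E) : Intw ρ (e : G) (ρ e) := fun a b h => by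
  rw [← map_mul, ← map_mul]
  congr 1
  refine Subtype.ext ?_
  simp only [Subgroup.coe_mul, h]
  group

variable [ρ.IsIrreducible]

theorem unique {g : G} {T : (Module.End ℂ (Fin d → ℂ))ˣ} {U : Module.End ℂ (Fin d → ℂ)}
    (hg : g ∈ normalizer (E : Set G)) (hT : Intw ρ g T) (hU : Intw ρ g U) :
    ∃ c : ℂ, U = c • (T : Module.End ℂ (Fin d → ℂ)) := by
  have h1 := mul hg (inv hg hT) hU
  rw [inv_mul_cancel] at h1
  obtain ⟨c, hc⟩ := schur_scalar ρ ((↑T⁻¹ : Module.End ℂ (Fin d → ℂ)) * U) fun e x =>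
    LinearMap.congr_fun (h1 e e (by group)) x
  refine ⟨c, ?_⟩
  calc U = ↑T * (↑T⁻¹ * U) := by rw [← mul_assoc, Units.mul_inv, one_mul]
    _ = c • (T : Module.End ℂ (Fin d → ℂ)) := by
      rw [hc, mul_smul_comm, show (LinearMap.id : Module.End ℂ (Fin d → ℂ)) = 1 from rfl, mul_one]

end Intw

variable [Finite G] {z : G} {E : Subgroup G} {d : ℕ} {ρ : Representation ℂ E (Fin d → ℂ)}
  [ρ.IsIrreducible]

theorem dim_ne_zero (ρ : Representation ℂ E (Fin d → ℂ)) [ρ.IsIrreducible] : d ≠ 0 := by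
  have := finrank_pos_of_isIrreducible ρ
  rw [Module.finrank_fin_fun] at this
  omega

/-- Intertwiners exist, with determinant one. -/
theorem exists_intw (h : Setting z E) (hval : ∀ e : E, ρ.character e = val d z e) {g : G}
    (hg : g ∈ normalizer (E : Set G)) :
    ∃ T : (Module.End ℂ (Fin d → ℂ))ˣ, Intw ρ g T ∧
      LinearMap.det (T : Module.End ℂ (Fin d → ℂ)) = 1 := by
  let φ : MulAut E := E.normalizerMonoidHom ⟨g, hg⟩
  have hφ : ∀ e : E, (φ e : G) = g * e * g⁻¹ := fun e => rfl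
  let σ : Representation ℂ E (Fin d → ℂ) := ρ.comp φ.toMonoidHom
  have hσ : ρ.character = σ.character := funext fun e => by
    show _ = ρ.character (φ e)
    rw [hval, hval, hφ, val_conj d h.central]
  haveI := Fintype.ofFinite E
  obtain ⟨f⟩ := equiv_of_char_eq ρ σ hσ
  let T₀ : Module.End ℂ (Fin d → ℂ) := f.toLinearEquiv.toLinearMap
  have hdet : LinearMap.det T₀ ≠ 0 := f.toLinearEquiv.isUnit_det'.ne_zero
  obtain ⟨r, hr⟩ := IsAlgClosed.exists_pow_nat_eq (LinearMap.det T₀)⁻¹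
    (Nat.pos_of_ne_zero (dim_ne_zero ρ))
  have hr0 : r ≠ 0 := fun e => inv_ne_zero hdet (by rw [← hr, e, zero_pow (dim_ne_zero ρ)])
  have hd1 : LinearMap.det (r • T₀) = 1 := by
    rw [LinearMap.det_smul, Module.finrank_fin_fun, hr, inv_mul_cancel₀ hdet]
  have hu : IsUnit (r • T₀) := (LinearMap.isUnit_iff_isUnit_det _).mpr (hd1 ▸ isUnit_one)
  refine ⟨hu.unit, fun e e' he => ?_, hd1⟩
  rw [IsUnit.unit_spec]
  refine LinearMap.ext fun x => ?_
  simp only [Module.End.mul_apply, LinearMap.smul_apply, map_smul]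
  congr 1
  show f.toLinearEquiv (ρ e x) = ρ e' (f.toLinearEquiv x)
  rw [equiv_map f e x, show e' = φ e from Subtype.ext (by rw [he, hφ])]
  rfl

/-- Without fixed points the traces of an intertwiner and of its inverse multiply to one. -/
theorem trace_mul_trace (h : Setting z E) (hval : ∀ e : E, ρ.character e = val d z e)
    (hd : d ^ 2 * 2 = Nat.card E) {g : G} (hg : g ∈ normalizer (E : Set G))
    (hfix : ∀ y ∈ E, (g * y * g⁻¹ = y ∨ g * y * g⁻¹ = z * y) → y = 1 ∨ y = z)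
    {T U : Module.End ℂ (Fin d → ℂ)} (hT : Intw ρ g T) (hTU : T * U = 1) :
    LinearMap.trace ℂ _ T * LinearMap.trace ℂ _ U = 1 := by
  classical
  haveI := Fintype.ofFinite E
  set S : Module.End ℂ (Fin d → ℂ) := ∑ y : E, ρ y * T * ρ y⁻¹ with hS
  obtain ⟨c, hc⟩ := schur_scalar ρ S fun a x => by
    refine LinearMap.congr_fun (?_ : S * ρ a = ρ a * S) x
    rw [hS, Finset.sum_mul, Finset.mul_sum]
    refine Fintype.sum_equiv (Equiv.mulLeft a⁻¹) _ _ fun y => ?_
    simp only [Equiv.coe_mulLeft, mul_inv_rev, inv_inv, map_mul, mul_assoc]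
    rw [← mul_assoc (ρ a), ← map_mul ρ a a⁻¹, mul_inv_cancel, map_one, one_mul]
  have hd0 : (d : ℂ) ≠ 0 := Nat.cast_ne_zero.mpr (dim_ne_zero ρ)
  have htr1 : (Nat.card E : ℂ) * LinearMap.trace ℂ _ T = c * d := by
    have h1 : ∀ y : E, LinearMap.trace ℂ _ (ρ y * T * ρ y⁻¹) = LinearMap.trace ℂ _ T := fun y => by
      rw [LinearMap.trace_mul_comm, ← mul_assoc, ← map_mul, inv_mul_cancel, map_one, one_mul]
    have h2 := congrArg (LinearMap.trace ℂ (Fin d → ℂ)) hc
    rw [hS, map_sum, Finset.sum_congr rfl fun y _ => h1 y, Finset.sum_const, Finset.card_univ,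
      ← Nat.card_eq_fintype_card, nsmul_eq_mul, map_smul,
      show (LinearMap.id : Module.End ℂ (Fin d → ℂ)) = 1 from rfl, LinearMap.trace_one,
      Module.finrank_fin_fun, smul_eq_mul] at h2
    exact h2
  have hterm : ∀ y : E, ρ y * T * ρ y⁻¹ * U =
      ρ (y * ⟨g * (y : G)⁻¹ * g⁻¹, (mem_normalizer_iff.mp hg _).mp (inv_mem y.2)⟩) := fun y => by
    rw [mul_assoc (ρ y), hT y⁻¹ ⟨g * (y : G)⁻¹ * g⁻¹, _⟩ rfl, ← mul_assoc (ρ y), mul_assoc _ T,
      hTU, mul_one, map_mul]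
  have htr2 : c * LinearMap.trace ℂ _ U = 2 * d := by
    have h2 := congrArg (fun X => LinearMap.trace ℂ (Fin d → ℂ) (X * U)) hc
    simp only [hS, Finset.sum_mul, map_sum, hterm, smul_mul_assoc, map_smul, smul_eq_mul,
      show (LinearMap.id : Module.End ℂ (Fin d → ℂ)) = 1 from rfl, one_mul] at h2
    rw [← h2]
    set ζ : E := ⟨z, h.mem⟩
    rw [Finset.sum_eq_add (1 : E) ζ (fun e => h.ne_one (congrArg Subtype.val e).symm)
      (fun y _ hy => ?_) (fun hx => absurd (Finset.mem_univ _) hx)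
      (fun hx => absurd (Finset.mem_univ _) hx)]
    · change ρ.character _ + ρ.character _ = _
      rw [hval, hval]
      have e1 : (1 : G) * (g * (1 : G)⁻¹ * g⁻¹) = 1 := by group
      have e2 : z * (g * z⁻¹ * g⁻¹) = 1 := by rw [h.inv_eq, h.central, mul_inv_cancel_right, h.mul_self]
      show val d z ((1 : G) * (g * (1 : G)⁻¹ * g⁻¹)) + val d z (z * (g * z⁻¹ * g⁻¹)) = _
      rw [e1, e2, val_one]
      ring
    · change ρ.character _ = 0
      rw [hval]
      show val d z ((y : G) * (g * (y : G)⁻¹ * g⁻¹)) = 0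
      by_contra hne
      have h3 : (y : G) * (g * (y : G)⁻¹ * g⁻¹) = 1 ∨ (y : G) * (g * (y : G)⁻¹ * g⁻¹) = z := by
        by_contra h4
        rw [not_or] at h4
        exact hne (val_other d h4.1 h4.2)
      have h5 : (y : G)⁻¹ = 1 ∨ (y : G)⁻¹ = z := hfix _ (inv_mem y.2) (h3.imp
        (fun e => by rw [eq_inv_of_mul_eq_one_right e])
        (fun e => by rw [← inv_mul_cancel_left (y : G) (g * (y : G)⁻¹ * g⁻¹), e, h.central]))
      rcases h5 with e | e
      · exact hy.1 (Subtype.ext (inv_eq_one.mp e))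
      · exact hy.2 (Subtype.ext ((inv_eq_iff_eq_inv.mp e).trans h.inv_eq))
  have h2d : (Nat.card E : ℂ) = d ^ 2 * 2 := by rw [← hd]; push_cast; ring
  rw [h2d] at htr1
  refine mul_left_cancel₀ (mul_ne_zero (pow_ne_zero 2 hd0) two_ne_zero) ?_
  rw [← mul_assoc, htr1, mul_one, mul_assoc, mul_comm (d : ℂ), ← mul_assoc, htr2]
  ring

end CfsgLib.ExtraExt
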