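import Cfsg.Agent.ExtraExt.Setting
import Mathlib.Analysis.SpecialFunctions.Complex.CircleAddChar
import Mathlib.NumberTheory.LegendreSymbol.AddCharacter
import Mathlib.Algebra.Order.Chebyshev

/-!
# Trace patterns of an operator of prime order commuting with a representation

If `|tr (R p * A ^ j)| = 1` for all `p` and all `j` prime to the order `q` of `A`, then these
traces are `tr (A ^ j) * ε p` for a linear character `ε`.
-/

set_option autoImplicit false
set_option linter.style.haveILetI false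
set_option linter.unusedSectionVars false

namespace CfsgLib.ExtraExt

open CfsgLib.Characters
open scoped ComplexConjugate

universe u v

/-- `q` times the sum of squares minus the square of the sum. -/
def spread {ι : Type*} [Fintype ι] (v : ι → ℤ) : ℤ :=
  (Fintype.card ι : ℤ) * ∑ i, v i ^ 2 - (∑ i, v i) ^ 2

theorem spread_nonneg {ι : Type*} [Fintype ι] (v : ι → ℤ) : 0 ≤ spread v :=
  sub_nonneg.mpr (sq_sum_le_card_mul_sum_sq (s := Finset.univ) (f := v))

theorem spread_shift {ι : Type*} [Fintype ι] (v : ι → ℤ) (m : ℤ) :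
    spread (fun i => v i - m) = spread v := by
  simp only [spread, sub_sq, Finset.sum_add_distrib, Finset.sum_sub_distrib, Finset.sum_const,
    Finset.card_univ, nsmul_eq_mul, ← Finset.sum_mul, ← Finset.mul_sum]
  ring

/-- The least positive spread and the vectors attaining it. -/
theorem spread_gap {ι : Type*} [Fintype ι] (v : ι → ℤ) {a b : ι} (hab : v a ≠ v b) :
    (Fintype.card ι : ℤ) - 1 ≤ spread v ∧ (spread v ≤ (Fintype.card ι : ℤ) - 1 →
      ∃ (i₀ : ι) (c ε : ℤ), (ε = 1 ∨ ε = -1) ∧ v i₀ = c + ε ∧ ∀ i, i ≠ i₀ → v i = c) := by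
  classical
  haveI : Nonempty ι := ⟨a⟩
  obtain ⟨i₁, -, hmin⟩ := Finset.exists_min_image Finset.univ v Finset.univ_nonempty
  set w : ι → ℤ := fun i => v i - v i₁ with hw
  have hw0 : ∀ i, 0 ≤ w i := fun i => sub_nonneg.mpr (hmin i (Finset.mem_univ _))
  set s := Finset.univ.filter fun i => w i ≠ 0 with hs
  have hspread : spread v = spread w := (spread_shift v (v i₁)).symm
  have hsum : ∑ i, w i = ∑ i ∈ s, w i := (Finset.sum_filter_of_ne fun _ _ h => h).symm
  have hsum2 : ∑ i, w i ^ 2 = ∑ i ∈ s, w i ^ 2 :=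
    (Finset.sum_filter_of_ne (f := fun i => w i ^ 2) (p := fun i => w i ≠ 0) fun i _ h (e : w i = 0) => h (by simp [e])).symm
  have hs1 : (1 : ℤ) ≤ s.card := by
    have : s.Nonempty := by
      by_contra hne
      rw [Finset.not_nonempty_iff_eq_empty, Finset.filter_eq_empty_iff] at hne
      have h1 := hne (Finset.mem_univ a)
      have h2 := hne (Finset.mem_univ b)
      rw [not_not, hw] at h1 h2
      exact hab (by simp only at h1 h2; omega)
    exact_mod_cast this.card_pos
  have hsq : (s.card : ℤ) < Fintype.card ι := by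
    have : s.card < Fintype.card ι := by
      rw [← Finset.card_univ]
      refine Finset.card_lt_card (Finset.filter_ssubset.mpr ⟨i₁, Finset.mem_univ _, ?_⟩)
      simp [hw]
    exact_mod_cast this
  have hge : ∀ i ∈ s, 1 ≤ w i ^ 2 := fun i hi => by
    have h1 : w i ≠ 0 := (Finset.mem_filter.mp hi).2
    have h2 : 1 ≤ w i := by have := hw0 i; omega
    nlinarith
  have hcs : (∑ i ∈ s, w i) ^ 2 ≤ (s.card : ℤ) * ∑ i ∈ s, w i ^ 2 := sq_sum_le_card_mul_sum_sq
  have hlb : (s.card : ℤ) ≤ ∑ i ∈ s, w i ^ 2 := by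
    have := Finset.card_nsmul_le_sum s _ 1 hge
    simpa using this
  have hD : ((Fintype.card ι : ℤ) - s.card) * ∑ i ∈ s, w i ^ 2 ≤ spread v := by
    rw [hspread, spread, hsum, hsum2]
    linarith
  refine ⟨by nlinarith, fun hle => ?_⟩
  have hsw : ∑ i ∈ s, w i ^ 2 = s.card := by nlinarith
  have hone : ∀ i ∈ s, w i = 1 := fun i hi => by
    have h1 : ∑ j ∈ s, (w j ^ 2 - 1) = 0 := by simp [Finset.sum_sub_distrib, hsw]
    have h2 := (Finset.sum_eq_zero_iff_of_nonneg fun j hj => sub_nonneg.mpr (hge j hj)).mp h1 i hi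
    rcases sq_eq_one_iff.mp (sub_eq_zero.mp h2) with h3 | h3
    · exact h3
    · have := hw0 i; omega
  have hzero : ∀ i, i ∉ s → w i = 0 := fun i hi => by
    by_contra h
    exact hi (Finset.mem_filter.mpr ⟨Finset.mem_univ _, h⟩)
  have hprod : ((s.card : ℤ) - 1) * ((Fintype.card ι : ℤ) - 1 - s.card) = 0 := by
    rw [hsw] at hD
    nlinarith
  rcases mul_eq_zero.mp hprod with h | h
  · obtain ⟨i₀, hi₀⟩ := Finset.card_eq_one.mp (show s.card = 1 by omega)
    refine ⟨i₀, v i₁, 1, Or.inl rfl, ?_, fun i hi => ?_⟩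
    · have := hone i₀ (hi₀ ▸ Finset.mem_singleton_self i₀)
      simp only [hw] at this; omega
    · have := hzero i (by rw [hi₀, Finset.mem_singleton]; exact hi)
      simp only [hw] at this; omega
  · have hc : sᶜ.card = 1 := by rw [Finset.card_compl]; omega
    obtain ⟨i₀, hi₀⟩ := Finset.card_eq_one.mp hc
    refine ⟨i₀, v i₁ + 1, -1, Or.inr rfl, ?_, fun i hi => ?_⟩
    · have := hzero i₀ (Finset.mem_compl.mp (hi₀ ▸ Finset.mem_singleton_self i₀))
      simp only [hw] at this; omega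
    · have := hone i (by
        by_contra h'
        exact hi (Finset.mem_singleton.mp (hi₀ ▸ Finset.mem_compl.mpr h')))
      simp only [hw] at this; omega

/-- The orthogonality of `ψ (· * y)`. -/
theorem sum_stdAddChar {q : ℕ} [NeZero q] (y : ZMod q) :
    ∑ μ : ZMod q, (ZMod.stdAddChar (N := q) (μ * y) : ℂ) = if y = 0 then (q : ℂ) else 0 := by
  rw [AddChar.sum_mulShift y (ZMod.isPrimitive_stdAddChar q), ZMod.card]
  split_ifs <;> simp

theorem sum_stdAddChar_ne {q : ℕ} [NeZero q] {y : ZMod q} (hy : y ≠ 0) :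
    ∑ μ : ZMod q, (ZMod.stdAddChar (N := q) (μ * y) : ℂ) = 0 := by
  rw [sum_stdAddChar, if_neg hy]

theorem pattern {Q : Type u} [Group Q] [Finite Q] {V : Type v} [AddCommGroup V] [Module ℂ V]
    [FiniteDimensional ℂ V] (R : Representation ℂ Q V) (A : Module.End ℂ V) {q : ℕ}
    [hq : Fact q.Prime] (hA : A ^ q = 1) (hcomm : ∀ p, A * R p = R p * A)
    (hkey : ∀ p, ∀ j : ℕ, ¬ q ∣ j →
      LinearMap.trace ℂ V (R p * A ^ j) * LinearMap.trace ℂ V (R p⁻¹ * A ^ (j * (q - 1))) = 1) :
    ∃ ε : Q →* ℂˣ, ∀ p, ∀ j : ℕ, ¬ q ∣ j →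
      LinearMap.trace ℂ V (R p * A ^ j) = LinearMap.trace ℂ V (A ^ j) * ε p := by
  classical
  haveI : NeZero q := ⟨hq.out.ne_zero⟩
  haveI := Fintype.ofFinite Q
  have hpow : ∀ j : ℕ, A ^ j = A ^ ((j : ZMod q)).val := fun j => by
    rw [ZMod.val_natCast, ← pow_eq_pow_mod j hA]
  let R' : Representation ℂ (Q × Multiplicative (ZMod q)) V :=
    { toFun := fun g => R g.1 * A ^ (Multiplicative.toAdd g.2).val
      map_one' := by simp
      map_mul' := fun a b => by
        have hc : Commute (A ^ (Multiplicative.toAdd a.2).val) (R b.1) :=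
          (show Commute A (R b.1) from hcomm b.1).pow_left _
        rw [Prod.fst_mul, Prod.snd_mul, toAdd_mul, map_mul, ZMod.val_add,
          ← pow_eq_pow_mod _ hA, pow_add, mul_assoc, mul_assoc, ← mul_assoc (R b.1), ← hc.eq,
          mul_assoc] }
  let X : Q → ZMod q → ℂ := fun p x => R'.character (p, Multiplicative.ofAdd x)
  have hX : ∀ p x, X p x = LinearMap.trace ℂ V (R p * A ^ x.val) := fun p x => rfl
  have hconj : ∀ p x, conj (X p x) = X p⁻¹ (-x) := fun p x =>
    (char_inv R' (p, Multiplicative.ofAdd x)).symm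
  have hunit : ∀ p x, x ≠ 0 → X p x * conj (X p x) = 1 := by
    intro p x hx
    rw [hconj, hX, hX]
    have hnd : ¬ q ∣ x.val := fun hd => hx (by
      rw [← ZMod.natCast_zmod_val x, (ZMod.natCast_eq_zero_iff _ _).mpr hd])
    have := hkey p x.val hnd
    rwa [hpow (x.val * (q - 1)), Nat.cast_mul, ZMod.natCast_zmod_val,
      Nat.cast_sub hq.out.one_le, ZMod.natCast_self, Nat.cast_one, zero_sub, mul_neg, mul_one]
      at this
  let ψ : AddChar (ZMod q) ℂ := ZMod.stdAddChar
  have hψconj : ∀ x, conj (ψ x) = ψ (-x) := fun x => (AddChar.map_neg_eq_conj ψ x).symm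
  let γ : ZMod q → Q → ℂ := fun μ p => (q : ℂ)⁻¹ * ∑ x, ψ (-(x * μ)) * X p x
  have hq0 : (q : ℂ) ≠ 0 := Nat.cast_ne_zero.mpr hq.out.ne_zero
  have hinv : ∀ p y, X p y = ∑ μ, ψ (μ * y) * γ μ p := by
    intro p y
    have h1 : ∀ x, ∑ μ, ψ (μ * y) * ψ (-(x * μ)) = if x = y then (q : ℂ) else 0 := fun x => by
      have h2 : ∀ μ : ZMod q, ψ (μ * y) * ψ (-(x * μ)) = ψ (μ * (y - x)) := fun μ => by
        rw [← AddChar.map_add_eq_mul]; congr 1; ring
      simp only [h2, ψ, sum_stdAddChar, sub_eq_zero, eq_comm]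
    calc X p y = (q : ℂ)⁻¹ * ∑ x, (∑ μ, ψ (μ * y) * ψ (-(x * μ))) * X p x := by
          simp only [h1, ite_mul, zero_mul, Finset.sum_ite_eq', Finset.mem_univ, if_true]
          rw [inv_mul_cancel_left₀ hq0]
      _ = _ := by
          simp only [γ, Finset.sum_mul, Finset.mul_sum]
          rw [Finset.sum_comm]
          exact Finset.sum_congr rfl fun μ _ => Finset.sum_congr rfl fun x _ => by ring
  have hclX : ∀ x, Cfsg.IsClassFunction Q (fun p => X p x) := fun x p h => by
    show R'.character _ = R'.character _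
    have := isClassFunction_of_isCharacter (isCharacter_character R')
      (p, Multiplicative.ofAdd x) (h, 1)
    simpa using this
  have hclγ : ∀ μ, Cfsg.IsClassFunction Q (γ μ) := fun μ p h => by
    simp only [γ]
    congr 1
    exact Finset.sum_congr rfl fun x _ => by rw [show X _ x = X p x from hclX x p h]
  have hnat : ∀ μ (α : Cfsg.IrrCharacter Q), ∃ m : ℕ, Cfsg.classInner (γ μ) (α : Q → ℂ) = m := by
    intro μ α
    let f : Q × Multiplicative (ZMod q) →* ℂˣ :=
      ((AddChar.mulShift ψ μ).toMonoidHom.comp (MonoidHom.snd _ _)).toHomUnits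
    have hη := isCharacter_mul (isCharacter_comp (MonoidHom.fst Q (Multiplicative (ZMod q)))
      (isCharacter_of_isIrr α.2)) (CfsgLib.CharactersDeep.LinearChar.isCharacter_hom f)
    obtain ⟨m, hm⟩ := classInner_characters (isCharacter_character R') hη
    refine ⟨m, hm ▸ ?_⟩
    rw [Cfsg.classInner, Cfsg.classInner, Fintype.sum_prod_type, Nat.card_prod,
      show Nat.card (Multiplicative (ZMod q)) = q from by
        rw [Nat.card_congr Multiplicative.toAdd, Nat.card_zmod], Nat.cast_mul, mul_inv, mul_assoc,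
      Finset.mul_sum (a := ((q : ℂ))⁻¹)]
    refine congrArg _ (Finset.sum_congr rfl fun p _ => ?_)
    simp only [γ, mul_assoc, Finset.sum_mul]
    refine congrArg _ (Fintype.sum_equiv Multiplicative.ofAdd _ _ fun x => ?_)
    show _ = R'.character (p, Multiplicative.ofAdd x) *
      conj ((α : Q → ℂ) p * ψ (μ * x))
    rw [map_mul, hψconj, mul_comm μ x]
    ring
  choose m hm using hnat
  have hclX0 : Cfsg.IsClassFunction Q (fun p => ∑ μ, γ μ p) := fun p h =>
    Finset.sum_congr rfl fun μ _ => hclγ μ p h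
  have hpar : ∀ p, (q : ℂ) * ∑ μ, γ μ p * conj (γ μ p) -
      (∑ μ, γ μ p) * conj (∑ μ, γ μ p) = (q : ℂ) - 1 := by
    intro p
    have h0 : X p 0 = ∑ μ, γ μ p := by simp [hinv p 0]
    have h1 : ∑ x, X p x * conj (X p x) = (q : ℂ) * ∑ μ, γ μ p * conj (γ μ p) := by
      have h2 : ∀ μ ν : ZMod q, ∑ x, ψ (μ * x) * conj (ψ (ν * x)) =
          if μ = ν then (q : ℂ) else 0 := fun μ ν => by
        have h3 : ∀ x, ψ (μ * x) * conj (ψ (ν * x)) = ψ (x * (μ - ν)) := fun x => by
          rw [hψconj, ← AddChar.map_add_eq_mul]; congr 1; ring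
        simp only [h3, ψ, sum_stdAddChar, sub_eq_zero]
      calc ∑ x, X p x * conj (X p x)
          = ∑ μ, ∑ ν, (∑ x, ψ (μ * x) * conj (ψ (ν * x))) * (γ μ p * conj (γ ν p)) := by
            simp only [hinv p, map_sum, map_mul, Finset.sum_mul_sum]
            rw [Finset.sum_comm]
            refine Finset.sum_congr rfl fun μ _ => ?_
            rw [Finset.sum_comm]
            refine Finset.sum_congr rfl fun ν _ => ?_
            rw [Finset.sum_mul]
            exact Finset.sum_congr rfl fun x _ => by ring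
        _ = _ := by
            simp only [h2, ite_mul, zero_mul, Finset.sum_ite_eq, Finset.mem_univ, if_true,
              Finset.mul_sum]
    rw [← h1, ← h0, ← Finset.add_sum_erase _ _ (Finset.mem_univ (0 : ZMod q)), add_sub_cancel_left,
      Finset.sum_congr rfl fun x hx => hunit p x (Finset.ne_of_mem_erase hx), Finset.sum_const,
      Finset.card_erase_of_mem (Finset.mem_univ _), Finset.card_univ, ZMod.card, nsmul_eq_mul,
      mul_one, Nat.cast_sub hq.out.one_le, Nat.cast_one]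
  have htotal : ∑ α : Cfsg.IrrCharacter Q, spread (fun μ => (m μ α : ℤ)) = (q : ℤ) - 1 := by
    have hsum : ∀ α : Cfsg.IrrCharacter Q,
        Cfsg.classInner (fun p => ∑ μ, γ μ p) (α : Q → ℂ) = ∑ μ, (m μ α : ℂ) := fun α => by
      rw [show (fun p => ∑ μ, γ μ p) = ∑ μ, γ μ from (funext fun p => (Finset.sum_apply p _ _).symm),
        classInner_sum_left]
      exact Finset.sum_congr rfl fun μ _ => hm μ α
    have h1 : (q : ℂ) * ∑ μ, Cfsg.classInner (γ μ) (γ μ) -
        Cfsg.classInner (fun p => ∑ μ, γ μ p) (fun p => ∑ μ, γ μ p) = (q : ℂ) - 1 := by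
      simp only [Cfsg.classInner]
      rw [← Finset.mul_sum, Finset.sum_comm, mul_left_comm, Finset.mul_sum (a := (q : ℂ)),
        ← mul_sub, ← Finset.sum_sub_distrib, Finset.sum_congr rfl fun p _ => hpar p,
        Finset.sum_const, Finset.card_univ, nsmul_eq_mul, Nat.card_eq_fintype_card,
        inv_mul_cancel_left₀ (Nat.cast_ne_zero.mpr Fintype.card_ne_zero)]
    have e1 : ∀ μ, Cfsg.classInner (γ μ) (γ μ) =
        ∑ α : Cfsg.IrrCharacter Q, (m μ α : ℂ) * m μ α := fun μ => by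
      rw [classInner_eq_sum (hclγ μ)]
      exact Finset.sum_congr rfl fun α _ => by rw [hm, Complex.conj_natCast]
    have e2 : Cfsg.classInner (fun p => ∑ μ, γ μ p) (fun p => ∑ μ, γ μ p) =
        ∑ α : Cfsg.IrrCharacter Q, (∑ μ, (m μ α : ℂ)) * ∑ μ, (m μ α : ℂ) := by
      rw [classInner_eq_sum hclX0]
      exact Finset.sum_congr rfl fun α _ => by simp only [hsum, map_sum, Complex.conj_natCast]
    simp only [e1, e2] at h1
    have h2 : ((∑ α : Cfsg.IrrCharacter Q, spread (fun μ => (m μ α : ℤ)) : ℤ) : ℂ)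
        = (((q : ℤ) - 1 : ℤ) : ℂ) := by
      push_cast [spread, ZMod.card]
      rw [← h1, Finset.sum_comm, Finset.mul_sum, ← Finset.sum_sub_distrib]
      exact Finset.sum_congr rfl fun α _ => by simp only [← sq]
    exact_mod_cast h2
  have hq1 : (0 : ℤ) < (q : ℤ) - 1 := by have := hq.out.two_le; omega
  obtain ⟨α₀, -, hα₀⟩ := Finset.exists_ne_zero_of_sum_ne_zero (htotal.trans_ne hq1.ne')
  have hnc : ∀ α : Cfsg.IrrCharacter Q, spread (fun μ => (m μ α : ℤ)) ≠ 0 →
      ∃ a b, (m a α : ℤ) ≠ m b α := fun α hα => by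
    by_contra hc
    push Not at hc
    refine hα ?_
    rw [← spread_shift _ (m 0 α : ℤ), spread]
    simp [hc _ 0]
  obtain ⟨a, b, hab⟩ := hnc α₀ hα₀
  have hgap := spread_gap (fun μ => (m μ α₀ : ℤ)) hab
  rw [ZMod.card] at hgap
  have hrest := Finset.add_sum_erase Finset.univ
    (fun α : Cfsg.IrrCharacter Q => spread (fun μ => (m μ α : ℤ))) (Finset.mem_univ α₀)
  rw [htotal] at hrest
  have hnn : 0 ≤ ∑ α ∈ Finset.univ.erase α₀, spread (fun μ => (m μ α : ℤ)) :=
    Finset.sum_nonneg fun α _ => spread_nonneg _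
  obtain ⟨μ₀, c, ε, hε, hμ₀, hμ⟩ := hgap.2 (by linarith)
  have hconst : ∀ α, α ≠ α₀ → ∀ a b, (m a α : ℤ) = m b α := fun α hα a b => by
    by_contra hne
    have h1 := Finset.single_le_sum (f := fun α => spread (fun μ => (m μ α : ℤ)))
      (fun α _ => spread_nonneg _) (Finset.mem_erase.mpr ⟨hα, Finset.mem_univ α⟩)
    have h2 := (spread_gap (fun μ => (m μ α : ℤ)) hne).1
    rw [ZMod.card] at h2
    linarith [hgap.1]
  have hval : ∀ p y, y ≠ 0 → X p y = (ε : ℂ) * ψ (μ₀ * y) * (α₀ : Q → ℂ) p := by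
    intro p y hy
    have h1 : ∀ μ, γ μ p = ∑ α : Cfsg.IrrCharacter Q, (m μ α : ℂ) * (α : Q → ℂ) p := fun μ => by
      conv_lhs => rw [classFunction_expansion (hclγ μ)]
      simp only [Finset.sum_apply, Pi.smul_apply, smul_eq_mul, hm]
    rw [hinv p y]
    simp only [h1, Finset.mul_sum]
    rw [Finset.sum_comm, Finset.sum_eq_single α₀ (fun α _ hα => ?_) (by simp)]
    · have h2 : ∀ μ, (m μ α₀ : ℂ) = (c : ℂ) + if μ = μ₀ then (ε : ℂ) else 0 := fun μ => by
        by_cases h : μ = μ₀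
        · rw [if_pos h, h]; exact_mod_cast hμ₀
        · rw [if_neg h, add_zero]; exact_mod_cast hμ μ h
      simp only [h2, add_mul, mul_add, Finset.sum_add_distrib, ite_mul, mul_ite, zero_mul,
        mul_zero, Finset.sum_ite_eq', Finset.mem_univ, if_true]
      rw [← Finset.sum_mul, show ∑ μ, ψ (μ * y) = 0 from sum_stdAddChar_ne hy]
      ring
    · have h2 : ∀ μ, (m μ α : ℂ) = (m 0 α : ℂ) := fun μ => by exact_mod_cast hconst α hα μ 0
      simp only [h2]
      rw [← Finset.sum_mul, show ∑ μ, ψ (μ * y) = 0 from sum_stdAddChar_ne hy, zero_mul]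
  obtain ⟨n, hn, hn1⟩ := exists_degree_pos α₀.2
  have hn1' : (α₀ : Q → ℂ) 1 = 1 := by
    have h1 := hunit 1 1 one_ne_zero
    rw [hval 1 1 one_ne_zero, hn1, map_mul (starRingEnd ℂ), map_mul (starRingEnd ℂ), hψconj, Complex.conj_natCast,
      map_intCast] at h1
    have h2 : ((n : ℂ)) ^ 2 = 1 := by
      rw [← h1]
      have h3 : ψ (μ₀ * 1) * ψ (-(μ₀ * 1)) = 1 := by
        rw [← AddChar.map_add_eq_mul, add_neg_cancel, AddChar.map_zero_eq_one]
      have h4 : (ε : ℂ) * ε = 1 := by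
        rcases hε with rfl | rfl <;> simp
      calc ((n : ℂ)) ^ 2 = ((ε : ℂ) * ε) * (ψ (μ₀ * 1) * ψ (-(μ₀ * 1))) * n ^ 2 := by
            rw [h3, h4, one_mul, one_mul]
        _ = _ := by ring
    have h5 : n ^ 2 = 1 := by exact_mod_cast h2
    rw [hn1, (pow_eq_one_iff.mp h5).resolve_right (by omega), Nat.cast_one]
  obtain ⟨ν, hν⟩ := CfsgLib.CharactersDeep.LinearChar.exists_hom (isCharacter_of_isIrr α₀.2) hn1'
  refine ⟨ν, fun p j hj => ?_⟩
  have hj' : (j : ZMod q) ≠ 0 := fun h => hj ((ZMod.natCast_eq_zero_iff _ _).mp h)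
  have h1 := hval 1 _ hj'
  rw [hX, map_one, one_mul, ← hpow, hn1', mul_one] at h1
  rw [hpow j, ← hX, hval p _ hj', ← hpow, h1, hν]

end CfsgLib.ExtraExt
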