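import Cfsg.Agent.ExtraExt.Glue
import Cfsg.Agent.ExtraExt.Intertwine
import Cfsg.Agent.ExtraExt.Pattern
import Mathlib.RingTheory.IntegralDomain

/-!
# The fixed-point-free case

A cyclic group of prime order `q ≠ 2` acting on `E` without fixed points on `E / ⟨z⟩` and
normalized by a 2-group `P`.
-/

set_option autoImplicit false
set_option linter.style.haveILetI false
set_option linter.unusedSectionVars false

namespace CfsgLib.ExtraExt

open Subgroup CfsgLib.Characters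

universe u

variable {G : Type u} [Group G] {z : G} {E : Subgroup G}

theorem fix_pow (h : Setting z E) {g y : G} (hy : g * y * g⁻¹ = y ∨ g * y * g⁻¹ = z * y) :
    ∀ n : ℕ, g ^ n * y * (g ^ n)⁻¹ = y ∨ g ^ n * y * (g ^ n)⁻¹ = z * y
  | 0 => Or.inl (by simp)
  | n + 1 => by
    have e1 : g ^ (n + 1) * y * (g ^ (n + 1))⁻¹ = g * (g ^ n * y * (g ^ n)⁻¹) * g⁻¹ := by
      rw [pow_succ']; group
    have e2 : g * (z * y) * g⁻¹ = z * (g * y * g⁻¹) := by
      rw [h.central_left, mul_assoc]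
    rcases fix_pow h hy n with e | e <;> rcases hy with e' | e' <;> rw [e1, e]
    · exact Or.inl e'
    · exact Or.inr e'
    · rw [e2, e']; exact Or.inr rfl
    · rw [e2, e', ← mul_assoc, h.mul_self, one_mul]; exact Or.inl rfl

variable [Finite G]

theorem finite_det_one {d : ℕ} {ρ : Representation ℂ E (Fin d → ℂ)} [ρ.IsIrreducible]
    {P₀ : Subgroup G} (Q : Subgroup (↥P₀ × (Module.End ℂ (Fin d → ℂ))ˣ))
    (hPN : P₀ ≤ normalizer (E : Set G))
    (hQ : ∀ x : Q, Intw ρ (x.1.1 : G) x.1.2 ∧ LinearMap.det (x.1.2 : Module.End ℂ (Fin d → ℂ)) = 1)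
    (T : ↥P₀ → (Module.End ℂ (Fin d → ℂ))ˣ) (hT : ∀ p : ↥P₀, Intw ρ (p : G) (T p) ∧
      LinearMap.det (T p : Module.End ℂ (Fin d → ℂ)) = 1) : Finite Q := by
  classical
  have hex : ∀ x : Q, ∃ c : {c : ℂ // c ∈ Polynomial.nthRootsFinset d (1 : ℂ)},
      (x.1.2 : Module.End ℂ (Fin d → ℂ)) = c.1 • (T x.1.1 : Module.End ℂ (Fin d → ℂ)) := by
    intro x
    obtain ⟨c, hc⟩ := Intw.unique (hPN x.1.1.2) (hT x.1.1).1 (hQ x).1
    refine ⟨⟨c, (Polynomial.mem_nthRootsFinset (Nat.pos_of_ne_zero (dim_ne_zero ρ)) _).mpr ?_⟩, hc⟩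
    have h1 := congrArg LinearMap.det hc
    rw [LinearMap.det_smul, Module.finrank_fin_fun, (hQ x).2, (hT _).2, mul_one] at h1
    exact h1.symm
  choose c hc using hex
  refine Finite.of_injective (fun x : Q => (x.1.1, c x)) fun x y hxy => ?_
  obtain ⟨h1, h2⟩ := Prod.mk.injEq _ _ _ _ ▸ hxy
  refine Subtype.ext (Prod.ext h1 (Units.ext ?_))
  rw [hc x, hc y, h1, h2]

variable {P : Subgroup G}

/-- The fixed-point-free case. -/
theorem good_base (h : Setting z E) {k : G} {q : ℕ} [hq : Fact q.Prime] (hq2 : q ≠ 2)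
    (hk : k ∈ normalizer (E : Set G)) (hPN : P ≤ normalizer (E : Set G)) (hP : IsPGroup 2 P)
    (hPE : P ⊓ E = ⊥) (hkq : SameOn E (k ^ q) 1)
    (hfpf : ∀ y ∈ E, (k * y * k⁻¹ = y ∨ k * y * k⁻¹ = z * y) → y = 1 ∨ y = z)
    (hkP : ∀ p ∈ P, ∃ i : ℕ, SameOn E (p * k * p⁻¹) (k ^ i)) : Good z E P := by
  classical
  by_cases hE : E = zpowers z
  · exact good_trivial h hE hPE
  obtain ⟨χ, hχ, hne⟩ := h.exists_irr
  obtain ⟨d, hd, hval⟩ := h.eq_val hχ hne
  obtain ⟨n, ρ, hρ, rfl⟩ := hχ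
  haveI := hρ
  obtain rfl : n = d := by
    have h1 := hval 1
    rw [Representation.char_one, Module.finrank_fin_fun, OneMemClass.coe_one, val_one] at h1
    exact_mod_cast h1
  have hkN : ∀ j : ℕ, k ^ j ∈ normalizer (E : Set G) := fun j => pow_mem hk j
  have hkmod : ∀ a b : ℕ, (a : ZMod q) = b → SameOn E (k ^ a) (k ^ b) := by
    intro a b hab
    have key : ∀ m : ℕ, SameOn E (k ^ m) (k ^ (m % q)) := fun m => by
      have h1 := ((hkq.pow (hkN q) (m / q)).mul (SameOn.refl (k ^ (m % q))) (hkN _))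
      rw [← pow_mul, ← pow_add, Nat.div_add_mod, one_pow, one_mul] at h1
      exact h1
    have hab' : a % q = b % q := (ZMod.natCast_eq_natCast_iff' a b q).mp hab
    exact (key a).trans (hab' ▸ (key b).symm)
  have hkinj : ∀ a : ℕ, SameOn E (k ^ a) 1 → (a : ZMod q) = 0 := by
    intro a ha
    by_contra h0
    have h2 : SameOn E (k ^ 1) (k ^ (a * ((a : ZMod q)⁻¹).val)) := hkmod _ _ (by
      rw [Nat.cast_mul, ZMod.natCast_zmod_val, mul_inv_cancel₀ h0, Nat.cast_one])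
    have h3 := ha.pow (hkN a) ((a : ZMod q)⁻¹).val
    rw [← pow_mul, one_pow] at h3
    rw [pow_one] at h2
    have h4 := h2.trans h3
    exact hE (le_antisymm (fun y hy => h.mem_zpowers_iff'.mpr
      (hfpf y hy (Or.inl (by rw [h4 y hy]; group)))) h.zpowers_le)
  have huniq : ∀ a b : ℕ, SameOn E (k ^ a) (k ^ b) → (a : ZMod q) = b := by
    intro a b hab
    have h1 := hab.mul (SameOn.refl (k ^ ((q - 1) * b))) (hkN _)
    rw [← pow_add, ← pow_add, show b + (q - 1) * b = q * b by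
      rw [Nat.sub_mul, one_mul, Nat.add_sub_cancel' (Nat.le_mul_of_pos_left b hq.out.pos)]] at h1
    have h2 := h1.trans (hkmod (q * b) 0 (by simp))
    rw [pow_zero] at h2
    have h3 := hkinj _ h2
    rw [Nat.cast_add, Nat.cast_mul, Nat.cast_sub hq.out.one_le, ZMod.natCast_self, Nat.cast_one,
      zero_sub, neg_mul, one_mul, ← sub_eq_add_neg, sub_eq_zero] at h3
    exact h3
  -- the exponent homomorphism
  choose e he using hkP
  let u : P →* ZMod q :=
    { toFun := fun p => (e p p.2 : ZMod q)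
      map_one' := by
        have h1 : SameOn E (k ^ e 1 (one_mem P)) (k ^ 1) := by
          refine (he 1 (one_mem P)).symm.trans ?_
          rw [one_mul, inv_one, mul_one, pow_one]
          exact SameOn.refl k
        simpa using huniq _ _ h1
      map_mul' := fun a b => by
        rw [← Nat.cast_mul]
        refine huniq _ _ ((he _ (mul_mem a.2 b.2)).symm.trans ?_)
        have h1 := ((SameOn.refl (a : G)).mul (he b b.2) (mul_mem (mul_mem (hPN b.2) hk)
          (inv_mem (hPN b.2)))).mul (SameOn.refl (a : G)⁻¹) (inv_mem (hPN a.2))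
        have h2 := (he a a.2).pow (mul_mem (mul_mem (hPN a.2) hk) (inv_mem (hPN a.2))) (e b b.2)
        rw [conj_pow, ← pow_mul] at h2
        have h3 := h1.trans h2
        rwa [show (a : G) * ((b : G) * k * (b : G)⁻¹) * (a : G)⁻¹ =
          ((a * b : P) : G) * k * ((a * b : P) : G)⁻¹ by simp [Subgroup.coe_mul, mul_assoc]] at h3 }
  let P₀ : Subgroup G := (u.toHomUnits.ker).map P.subtype
  have hP₀P : P₀ ≤ P := map_subtype_le _
  have hmem₀ : ∀ (p : G) (hp : p ∈ P), p ∈ P₀ ↔ (e p hp : ZMod q) = 1 := fun p hp => by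
    constructor
    · rintro ⟨⟨x, hx⟩, hxk, rfl⟩
      exact congrArg Units.val (MonoidHom.mem_ker.mp hxk)
    · intro h1
      exact ⟨⟨p, hp⟩, MonoidHom.mem_ker.mpr (Units.ext h1), rfl⟩
  have hk₀ : ∀ p ∈ P₀, SameOn E (p * k * p⁻¹) k := fun p hp => by
    have h1 := (he p (hP₀P hp)).trans (hkmod _ 1 (by rw [(hmem₀ p _).mp hp, Nat.cast_one]))
    rwa [pow_one] at h1
  have hN₀ : P₀ ≤ normalizer (E : Set G) := hP₀P.trans hPN
  -- fixed points of `p * k ^ j`
  have hfix : ∀ p ∈ P₀, ∀ j : ℕ, ¬ q ∣ j → ∀ y ∈ E,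
      (p * k ^ j * y * (p * k ^ j)⁻¹ = y ∨ p * k ^ j * y * (p * k ^ j)⁻¹ = z * y) →
      y = 1 ∨ y = z := by
    intro p hp j hj y hy hfy
    obtain ⟨m, hm⟩ := hP ⟨p, hP₀P hp⟩
    have hpm : p ^ 2 ^ m = 1 := congrArg Subtype.val hm
    have hcomm : SameOn E (k ^ j * p) (p * k ^ j) := by
      have h1 := ((hk₀ p hp).pow (mul_mem (mul_mem (hN₀ hp) hk) (inv_mem (hN₀ hp))) j).mul
        (SameOn.refl p) (hN₀ hp)
      rw [conj_pow, inv_mul_cancel_right] at h1
      exact h1.symm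
    have hpow : ∀ n : ℕ, SameOn E ((p * k ^ j) ^ n) (p ^ n * k ^ (j * n)) := by
      intro n
      induction n with
      | zero => simp [SameOn.refl]
      | succ n ih =>
        have h2 : SameOn E (k ^ (j * n) * p) (p * k ^ (j * n)) := by
          have h1 := ((hk₀ p hp).pow (mul_mem (mul_mem (hN₀ hp) hk) (inv_mem (hN₀ hp))) (j * n)).mul
            (SameOn.refl p) (hN₀ hp)
          rw [conj_pow, inv_mul_cancel_right] at h1
          exact h1.symm
        have h3 := (ih.mul (SameOn.refl (p * k ^ j)) (mul_mem (hN₀ hp) (hkN j))).trans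
          (show SameOn E (p ^ n * k ^ (j * n) * (p * k ^ j)) (p ^ (n + 1) * k ^ (j * (n + 1))) by
            have h4 := ((SameOn.refl (p ^ n)).mul h2 (mul_mem (hkN _) (hN₀ hp))).mul
              (SameOn.refl (k ^ j)) (hkN j)
            rwa [show p ^ n * (k ^ (j * n) * p) * k ^ j = p ^ n * k ^ (j * n) * (p * k ^ j) by
                simp only [mul_assoc],
              show p ^ n * (p * k ^ (j * n)) * k ^ j = p ^ (n + 1) * k ^ (j * (n + 1)) by
                rw [pow_succ, Nat.mul_succ, pow_add]; simp only [mul_assoc]] at h4)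
        rw [pow_succ]
        exact h3
    have hjm : ((j * 2 ^ m : ℕ) : ZMod q) ≠ 0 := by
      rw [Nat.cast_mul, mul_ne_zero_iff]
      refine ⟨fun e0 => hj ((ZMod.natCast_eq_zero_iff _ _).mp e0), fun e0 => ?_⟩
      exact hq2 ((Nat.prime_dvd_prime_iff_eq hq.out Nat.prime_two).mp
        (hq.out.dvd_of_dvd_pow ((ZMod.natCast_eq_zero_iff _ _).mp e0)))
    have h5 := fix_pow h hfy (2 ^ m)
    have h6 := hpow (2 ^ m)
    rw [hpm, one_mul] at h6
    rw [h6 y hy] at h5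
    have h7 := fix_pow h h5 (((j * 2 ^ m : ℕ) : ZMod q)⁻¹).val
    rw [← pow_mul, hkmod _ 1 (by
      rw [Nat.cast_mul, ZMod.natCast_zmod_val, mul_inv_cancel₀ hjm, Nat.cast_one]) y hy,
      pow_one] at h7
    exact hfpf y hy h7
  -- the operator of order `q`
  obtain ⟨T₁, hT₁, hT₁d⟩ := exists_intw h hval hk
  obtain ⟨c₁, hc₁⟩ := Intw.unique (T := 1) (one_mem _) (by exact Intw.one)
    ((Intw.pow hk hT₁ q).congr hkq)
  have hdet₁ : c₁ ≠ 0 := fun e0 => by
    have h1 := congrArg LinearMap.det hc₁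
    rw [e0, zero_smul, map_pow, hT₁d, one_pow, LinearMap.det_zero, Module.finrank_fin_fun,
      zero_pow (dim_ne_zero ρ)] at h1
    exact one_ne_zero h1
  obtain ⟨r, hr⟩ := IsAlgClosed.exists_pow_nat_eq c₁⁻¹ hq.out.pos
  obtain ⟨A, hA, hAk⟩ : ∃ A : Module.End ℂ (Fin n → ℂ), A ^ q = 1 ∧ Intw ρ k A :=
    ⟨r • (T₁ : Module.End ℂ (Fin n → ℂ)), by
      rw [smul_pow, hc₁, smul_smul, hr, inv_mul_cancel₀ hdet₁, Units.val_one, one_smul],
      hT₁.smul r⟩
  have hinvA : ∀ j : ℕ, A ^ j * A ^ (j * (q - 1)) = 1 := fun j => by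
    rw [← pow_add, show j + j * (q - 1) = q * j by
      rw [Nat.mul_sub, mul_one, Nat.add_sub_cancel' (Nat.le_mul_of_pos_right j hq.out.pos),
        mul_comm], pow_mul, hA, one_pow]
  have hinvA' : ∀ j : ℕ, A ^ (j * (q - 1)) * A ^ j = 1 := fun j => by
    rw [← pow_add, add_comm, pow_add, hinvA]
  let UA : ℕ → (Module.End ℂ (Fin n → ℂ))ˣ := fun j => ⟨A ^ j, A ^ (j * (q - 1)), hinvA j, hinvA' j⟩
  have hA0 : LinearMap.trace ℂ _ A ≠ 0 := fun e0 => by
    have h1 := trace_mul_trace h hval hd hk hfpf hAk (U := A ^ (1 * (q - 1))) (by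
      simpa using hinvA 1)
    rw [e0, zero_mul] at h1
    exact zero_ne_one h1
  -- the finite cover of `P₀`
  let Q : Subgroup (↥P₀ × (Module.End ℂ (Fin n → ℂ))ˣ) :=
    { carrier := {x | Intw ρ (x.1 : G) x.2 ∧ LinearMap.det (x.2 : Module.End ℂ (Fin n → ℂ)) = 1}
      one_mem' := ⟨Intw.one, LinearMap.det.map_one⟩
      mul_mem' := by
        rintro x y ⟨hx, hx'⟩ ⟨hy, hy'⟩
        refine ⟨Intw.mul (hN₀ y.1.2) hx hy, ?_⟩
        rw [Prod.snd_mul, Units.val_mul, map_mul, hx', hy', one_mul]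
      inv_mem' := by
        rintro x ⟨hx, hx'⟩
        refine ⟨Intw.inv (hN₀ x.1.2) hx, ?_⟩
        have h1 := congrArg LinearMap.det (Units.inv_mul x.2)
        rw [map_mul, hx', mul_one, LinearMap.det.map_one] at h1
        exact h1 }
  choose T₀ hT₀ using fun p : ↥P₀ => exists_intw h hval (hN₀ p.2)
  haveI : Finite Q := finite_det_one Q hN₀ (fun x => x.2) T₀ hT₀
  let R : Representation ℂ Q (Fin n → ℂ) :=
    (Units.coeHom _).comp ((MonoidHom.snd _ _).comp Q.subtype)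
  have hR : ∀ x : Q, Intw ρ (x.1.1 : G) (R x) := fun x => x.2.1
  have hcomm : ∀ x : Q, A * R x = R x * A := by
    intro x
    let T : (Module.End ℂ (Fin n → ℂ))ˣ := x.1.2
    have hTi : Intw ρ ((x.1.1 : G))⁻¹ (↑T⁻¹ : Module.End ℂ (Fin n → ℂ)) :=
      Intw.inv (hN₀ x.1.1.2) x.2.1
    have hU : Intw ρ k ((T : Module.End ℂ (Fin n → ℂ)) * A * ↑T⁻¹) :=
      (Intw.mul (inv_mem (hN₀ x.1.1.2)) (Intw.mul hk x.2.1 hAk) hTi).congr (hk₀ _ x.1.1.2)
    obtain ⟨c, hc⟩ := Intw.unique (T := UA 1) hk (by simpa [UA] using hAk) hU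
    simp only [UA, pow_one] at hc
    have hc1 : c = 1 := by
      have h1 := congrArg (LinearMap.trace ℂ (Fin n → ℂ)) hc
      rw [LinearMap.trace_mul_comm, ← mul_assoc, Units.inv_mul, one_mul, map_smul, smul_eq_mul]
        at h1
      exact mul_right_cancel₀ hA0 (by rw [one_mul]; exact h1.symm)
    rw [hc1, one_smul] at hc
    show A * T = T * A
    conv_lhs => rw [← hc, mul_assoc, Units.inv_mul, mul_one]
  obtain ⟨ε, hε⟩ := pattern R A hA hcomm fun x j hj => by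
    refine trace_mul_trace h hval hd (mul_mem (hN₀ x.1.1.2) (hkN j)) (hfix _ x.1.1.2 j hj)
      (Intw.mul (hkN j) (hR x) (Intw.pow hk hAk j)) ?_
    have h1 : A ^ (j * (q - 1)) * R x⁻¹ = R x⁻¹ * A ^ (j * (q - 1)) :=
      ((show Commute A (R x⁻¹) from hcomm x⁻¹).pow_left _).eq
    rw [← h1, mul_assoc, ← mul_assoc (A ^ j), hinvA, one_mul, ← map_mul, mul_inv_cancel, map_one]
  -- the normalized intertwiners
  set σ := LinearMap.trace ℂ (Fin n → ℂ) A with hσ
  let Norm : G → (Module.End ℂ (Fin n → ℂ))ˣ → Prop := fun p W =>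
    Intw ρ p W ∧ LinearMap.trace ℂ _ ((W : Module.End ℂ (Fin n → ℂ)) * A) = σ
  have hq1 : ¬ q ∣ 1 := hq.out.not_dvd_one
  have huW : ∀ p ∈ P₀, ∀ W W', Norm p W → Norm p W' → W = W' := by
    intro p hp W W' hW hW'
    obtain ⟨c, hc⟩ := Intw.unique (hN₀ hp) hW.1 hW'.1
    have h1 := hW'.2
    rw [hc, smul_mul_assoc, map_smul, hW.2, smul_eq_mul, mul_eq_right₀ hA0] at h1
    rw [h1, one_smul] at hc
    exact Units.ext hc.symm
  let w : Q →* (Module.End ℂ (Fin n → ℂ))ˣ :=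
    { toFun := fun x => (Units.map (algebraMap ℂ (Module.End ℂ (Fin n → ℂ))).toMonoidHom
        ((ε x)⁻¹)) * x.1.2
      map_one' := by simp
      map_mul' := fun a b => by
        have hcen : ∀ (c : ℂˣ) (T : (Module.End ℂ (Fin n → ℂ))ˣ),
            T * Units.map (algebraMap ℂ (Module.End ℂ (Fin n → ℂ))).toMonoidHom c =
              Units.map (algebraMap ℂ (Module.End ℂ (Fin n → ℂ))).toMonoidHom c * T := fun c T =>
          Units.ext (Algebra.commutes (c : ℂ) (T : Module.End ℂ (Fin n → ℂ))).symm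
        rw [map_mul, mul_inv, map_mul, Subgroup.coe_mul, Prod.snd_mul, mul_assoc, mul_assoc,
          ← mul_assoc (b := a.1.2), ← hcen _ a.1.2, mul_assoc] }
  have hw : ∀ x, (w x : Module.End ℂ (Fin n → ℂ)) = ((ε x)⁻¹ : ℂˣ).val • R x := fun x =>
    (Algebra.smul_def _ _).symm
  have hwA : ∀ x : Q, ∀ j : ℕ, ¬ q ∣ j →
      LinearMap.trace ℂ _ ((w x : Module.End ℂ (Fin n → ℂ)) * A ^ j) =
        LinearMap.trace ℂ _ (A ^ j) := fun x j hj => by
    rw [hw, smul_mul_assoc, map_smul, hε x j hj, smul_eq_mul, mul_left_comm, Units.inv_mul,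
      mul_one]
  have hwN : ∀ x : Q, Norm x.1.1 (w x) := fun x => by
    refine ⟨?_, ?_⟩
    · rw [hw]; exact (hR x).smul _
    · have h1 := hwA x 1 hq1
      rwa [pow_one] at h1
  let x₀ : ↥P₀ → Q := fun p => ⟨(p, T₀ p), hT₀ p⟩
  let W : ↥P₀ →* (Module.End ℂ (Fin n → ℂ))ˣ :=
    { toFun := fun p => w (x₀ p)
      map_one' := huW _ (one_mem _) _ _ (hwN (x₀ 1)) ⟨Intw.one, by rw [Units.val_one, one_mul]⟩
      map_mul' := fun a b => by
        rw [← map_mul]
        exact huW _ (mul_mem a.2 b.2) _ _ (hwN (x₀ (a * b))) (hwN (x₀ a * x₀ b)) }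
  have hWN : ∀ p : ↥P₀, Norm p (W p) := fun p => hwN (x₀ p)
  -- the representation of the semidirect product
  let φ := (E.normalizerMonoidHom).comp (inclusion hN₀)
  let π' : E ⋊[φ] ↥P₀ →* G := SemidirectProduct.monoidHomSubgroup hN₀
  have hπ'mem : ∀ x, π' x ∈ E ⊔ P₀ := fun x =>
    mul_mem (mem_sup_left x.left.2) (mem_sup_right x.right.2)
  let π : E ⋊[φ] ↥P₀ →* ↥(E ⊔ P₀) := π'.codRestrict _ hπ'mem
  let F : Representation ℂ (E ⋊[φ] ↥P₀) (Fin n → ℂ) := (Units.coeHom _).comp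
    (SemidirectProduct.lift ρ.asGroupHom W fun p => MonoidHom.ext fun e => Units.ext (by
      simp only [MonoidHom.comp_apply, MulEquiv.coe_toMonoidHom, MulAut.conj_apply, Units.val_mul,
        Representation.asGroupHom_apply]
      rw [(hWN p).1 e (φ p e) rfl, mul_assoc, Units.mul_inv, mul_one]))
  have hF : ∀ x, F x = ρ x.left * (W x.right : Module.End ℂ (Fin n → ℂ)) := fun x => by
    simp [F, SemidirectProduct.lift, Representation.asGroupHom_apply]
  haveI : Finite (E ⋊[φ] ↥P₀) := Finite.of_equiv _ SemidirectProduct.equivProd.symm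
  have hπs : Function.Surjective π := by
    intro x
    obtain ⟨a, ha, p, hp, hx⟩ := exists_eq_mul hN₀ x.2
    exact ⟨⟨⟨a, ha⟩, ⟨p, hp⟩⟩, Subtype.ext hx⟩
  obtain ⟨Φ, hΦ, hΦπ⟩ := descend π hπs (isCharacter_character F) (fun x hx => by
    have h1 : (x.left : G) * x.right = 1 := congrArg Subtype.val hx
    have h2 : (x.right : G) = 1 := by
      have hm : (x.right : G) ∈ P ⊓ E := mem_inf.mpr ⟨hP₀P x.right.2, by
        rw [show (x.right : G) = (x.left : G)⁻¹ from (inv_eq_of_mul_eq_one_right h1).symm]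
        exact inv_mem x.left.2⟩
      rwa [hPE, Subgroup.mem_bot] at hm
    rw [show x = 1 from SemidirectProduct.ext (Subtype.ext (by rwa [h2, mul_one] at h1))
      (Subtype.ext h2)])
  have hΦform : ∀ (x : ↥(E ⊔ P₀)) (a : E) (p : ↥P₀), (x : G) = a * p →
      Φ x = LinearMap.trace ℂ _ (ρ a * (W p : Module.End ℂ (Fin n → ℂ))) := fun x a p hx => by
    rw [show x = π ⟨a, p⟩ from Subtype.ext hx, hΦπ, Representation.character, hF]
  have hres : ∀ x : ↥(E ⊔ P₀), (x : G) ∈ E → Φ x = val n z x := fun x hx => by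
    rw [hΦform x ⟨x, hx⟩ 1 (by simp), map_one, Units.val_one, mul_one]
    exact hval ⟨x, hx⟩
  -- invariance
  have hinvS : ∀ s ∈ P, ∀ x y : ↥(E ⊔ P₀), (y : G) = s * x * s⁻¹ → Φ y = Φ x := by
    intro s hs x y hxy
    obtain ⟨a, ha, p, hp, hx⟩ := exists_eq_mul hN₀ x.2
    have hp' : s * p * s⁻¹ ∈ P₀ := by
      obtain ⟨⟨p', hp'P⟩, hker, rfl⟩ := hp
      exact ⟨⟨s, hs⟩ * ⟨p', hp'P⟩ * ⟨s, hs⟩⁻¹,
        (inferInstance : u.toHomUnits.ker.Normal).conj_mem _ hker _, rfl⟩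
    have ha' : s * a * s⁻¹ ∈ E := (mem_normalizer_iff.mp (hPN hs) a).mp ha
    obtain ⟨S, hS, -⟩ := exists_intw h hval (hPN hs)
    have hWs : W ⟨_, hp'⟩ = S * W ⟨p, hp⟩ * S⁻¹ := by
      refine huW _ hp' _ _ (hWN ⟨_, hp'⟩) ⟨?_, ?_⟩
      · rw [Units.val_mul, Units.val_mul]
        exact Intw.mul (inv_mem (hPN hs)) (Intw.mul (hN₀ hp) hS (hWN ⟨p, hp⟩).1)
          (Intw.inv (hPN hs) hS)
      · -- `S⁻¹ A S` is a multiple of a power of `A`
        set i := e s⁻¹ (inv_mem hs)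
        have hi : ¬ q ∣ i := fun hdvd => by
          have h1 : ((e s⁻¹ (inv_mem hs) : ℕ) : ZMod q) ≠ 0 :=
            (u.toHomUnits ⟨s⁻¹, inv_mem hs⟩).ne_zero
          exact h1 ((ZMod.natCast_eq_zero_iff _ _).mpr hdvd)
        have hB : Intw ρ (k ^ i) ((↑S⁻¹ : Module.End ℂ (Fin n → ℂ)) * A * S) := by
          refine (Intw.mul (hPN hs) (Intw.mul hk (Intw.inv (hPN hs) hS) hAk) hS).congr ?_
          have h2 := he s⁻¹ (inv_mem hs)
          rwa [inv_inv] at h2
        obtain ⟨c, hc⟩ := Intw.unique (T := UA i) (hkN i) (Intw.pow hk hAk i) hB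
        simp only [UA] at hc
        have h3 := congrArg (LinearMap.trace ℂ (Fin n → ℂ)) hc
        rw [LinearMap.trace_mul_comm, ← mul_assoc, Units.mul_inv, one_mul, map_smul] at h3
        calc LinearMap.trace ℂ _ (((S * W ⟨p, hp⟩ * S⁻¹ : (Module.End ℂ (Fin n → ℂ))ˣ) :
              Module.End ℂ (Fin n → ℂ)) * A)
            = LinearMap.trace ℂ _ ((W ⟨p, hp⟩ : Module.End ℂ (Fin n → ℂ)) *
                ((↑S⁻¹ : Module.End ℂ (Fin n → ℂ)) * A * (S : Module.End ℂ (Fin n → ℂ)))) := by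
              rw [Units.val_mul, Units.val_mul, mul_assoc, mul_assoc, LinearMap.trace_mul_comm,
                mul_assoc]
          _ = σ := by
              rw [hc, mul_smul_comm, map_smul]
              show c • LinearMap.trace ℂ _ ((w (x₀ ⟨p, hp⟩) : Module.End ℂ (Fin n → ℂ)) * A ^ i) = _
              rw [hwA _ i hi, ← h3]
    rw [hΦform x ⟨a, ha⟩ ⟨p, hp⟩ hx.symm, hΦform y ⟨_, ha'⟩ ⟨_, hp'⟩ (by rw [hxy, ← hx]; group),
      hWs, Units.val_mul, Units.val_mul, ← mul_assoc, ← mul_assoc, ← hS ⟨a, ha⟩ ⟨_, ha'⟩ rfl,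
      LinearMap.trace_mul_comm, ← mul_assoc, ← mul_assoc, Units.inv_mul, one_mul]
  have hHN : E ⊔ P ≤ normalizer ((E ⊔ P₀ : Subgroup G) : Set G) := by
    refine sup_le (le_sup_left.trans le_normalizer) fun g hg => ?_
    have key : ∀ g ∈ P, ∀ x ∈ E ⊔ P₀, g * x * g⁻¹ ∈ E ⊔ P₀ := fun g hg x hx => by
      obtain ⟨a, ha, p, hp, rfl⟩ := exists_eq_mul hN₀ hx
      rw [show g * (a * p) * g⁻¹ = g * a * g⁻¹ * (g * p * g⁻¹) by group]
      refine mul_mem (mem_sup_left (le_normalizer_apply hPN hg ha)) (mem_sup_right ?_)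
      obtain ⟨⟨p', hp'P⟩, hker, rfl⟩ := hp
      exact ⟨⟨g, hg⟩ * ⟨p', hp'P⟩ * ⟨g, hg⟩⁻¹,
        (inferInstance : u.toHomUnits.ker.Normal).conj_mem _ hker _, rfl⟩
    refine mem_normalizer_iff.mpr fun x => ⟨key g hg x, fun hx => ?_⟩
    simpa [mul_assoc] using key g⁻¹ (inv_mem hg) _ hx
  refine good_of_cyclic h (H := E ⊔ P₀) le_sup_left (sup_le_sup_left hP₀P E) hHN u.toHomUnits
    (fun p hp => mem_sup_right ⟨p, hp, rfl⟩) hd hΦ hres fun g hg x y hxy => ?_
  obtain ⟨a, ha, s, hs, rfl⟩ := exists_eq_mul hPN hg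
  have hq' : s * x * s⁻¹ ∈ E ⊔ P₀ := (mem_normalizer_iff.mp (hHN (mem_sup_right hs)) _).mp x.2
  rw [show y = ⟨a, mem_sup_left ha⟩ * ⟨_, hq'⟩ * (⟨a, mem_sup_left ha⟩ : ↥(E ⊔ P₀))⁻¹ from
      Subtype.ext (by simp only [Subgroup.coe_mul, Subgroup.coe_inv]; rw [hxy]; group),
    isClassFunction_of_isCharacter hΦ]
  exact hinvS s hs x _ rfl

end CfsgLib.ExtraExt
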