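import Cfsg.Agent.ExtraExt.Setting
import Cfsg.Agent.FgsSix.SupCard

/-!
# Gluing extensions of the faithful character

`good_trivial`, `product` (central products), `good_of_cyclic` (cyclic quotient) and `good_swap`.
-/

set_option autoImplicit false
set_option linter.style.haveILetI false
set_option linter.unusedSectionVars false

namespace CfsgLib.ExtraExt

open Subgroup CfsgLib.Characters

universe u

variable {G : Type u} [Group G]

theorem mul_conj_mul (a b p q : G) : a * p * (b * q) = a * (p * b * p⁻¹) * (p * q) := by group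

theorem le_normalizer_apply {P A : Subgroup G} (h : P ≤ normalizer (A : Set G)) {p a : G}
    (hp : p ∈ P) (ha : a ∈ A) : p * a * p⁻¹ ∈ A :=
  (mem_normalizer_iff.mp (h hp) a).mp ha

theorem le_normalizer_apply' {P A : Subgroup G} (h : P ≤ normalizer (A : Set G)) {p a : G}
    (hp : p ∈ P) (ha : a ∈ A) : p⁻¹ * a * p ∈ A := by
  simpa using le_normalizer_apply h (inv_mem hp) ha

theorem exists_eq_mul {A B : Subgroup G} (h : B ≤ normalizer (A : Set G)) {x : G}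
    (hx : x ∈ A ⊔ B) : ∃ a ∈ A, ∃ b ∈ B, a * b = x := by
  rw [← SetLike.mem_coe, coe_mul_of_right_le_normalizer_left A B h] at hx
  exact hx

/-- A character with a kernel containing the kernel of a surjection descends. -/
theorem descend {T : Type u} [Group T] [Finite T] {H : Type u} [Group H] (π : T →* H)
    (hπ : Function.Surjective π) {χ : T → ℂ} (hχ : Cfsg.IsCharacter T χ)
    (hker : ∀ t, π t = 1 → χ t = χ 1) :
    ∃ ψ : H → ℂ, Cfsg.IsCharacter H ψ ∧ ∀ t, ψ (π t) = χ t := by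
  haveI := Fintype.ofFinite T
  obtain ⟨n, ρ, rfl⟩ := hχ
  have hk : π.ker ≤ ρ.asGroupHom.ker := fun t ht => by
    rw [MonoidHom.mem_ker]
    refine Units.ext ?_
    rw [Representation.asGroupHom_apply, Units.val_one]
    exact (char_eq_finrank_iff ρ t).1 ((hker t ht).trans (Representation.char_one ρ))
  let f := π.liftOfSurjective hπ ⟨ρ.asGroupHom, hk⟩
  refine ⟨_, ⟨n, (Units.coeHom _).comp f, rfl⟩, fun t => ?_⟩
  refine congrArg (LinearMap.trace ℂ _) ?_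
  rw [MonoidHom.comp_apply, Units.coeHom_apply,
    show f (π t) = ρ.asGroupHom t from MonoidHom.liftOfRightInverse_comp_apply _ _ _ _ t,
    Representation.asGroupHom_apply]

variable [Finite G] {z : G} {E : Subgroup G}

/-- The faithful character has norm one. -/
theorem isIrr_of_extends (h : Setting z E) {d : ℕ} (hd : d ^ 2 * 2 = Nat.card E) {H : Subgroup G}
    (hEH : E ≤ H) {χ : H → ℂ} (hχ : Cfsg.IsCharacter H χ)
    (hres : ∀ e : H, (e : G) ∈ E → χ e = val d z e) : Cfsg.IsIrrCharacter H χ := by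
  classical
  haveI := Fintype.ofFinite E
  haveI := Fintype.ofFinite H
  obtain ⟨n, R, rfl⟩ := hχ
  let ρ : Representation ℂ E (Fin n → ℂ) := R.comp (Subgroup.inclusion hEH)
  have hval : ∀ e : E, ρ.character e = val d z e := fun e =>
    hres (Subgroup.inclusion hEH e) e.2
  haveI : ρ.IsIrreducible := by
    rw [isIrreducible_iff_classInner, Cfsg.classInner]
    set ζ : E := ⟨z, h.mem⟩ with hζ
    rw [Finset.sum_eq_add (1 : E) ζ (fun e => h.ne_one (congrArg Subtype.val e).symm)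
      (fun e _ he => by
        rw [hval, val_other _ (fun e' => he.1 (Subtype.ext e')) (fun e' => he.2 (Subtype.ext e')),
          zero_mul])
      (fun hx => absurd (Finset.mem_univ _) hx) (fun hx => absurd (Finset.mem_univ _) hx),
      hval 1, hval ζ, OneMemClass.coe_one, val_one, hζ, val_z _ h.ne_one]
    simp only [map_neg, Complex.conj_natCast, mul_neg, neg_mul, neg_neg]
    rw [inv_mul_eq_one₀ (Nat.cast_ne_zero.2 Nat.card_pos.ne'), ← hd]
    push_cast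
    ring
  haveI := nontrivial_of_isIrreducible ρ
  haveI : R.IsIrreducible := by
    refine isIrreducible_of_forall R fun U hU => ?_
    have hs := IsSimpleOrder.eq_bot_or_eq_top (⟨U, fun e x hx => hU _ x hx⟩ : Subrepresentation ρ)
    exact hs.imp (congrArg Subrepresentation.toSubmodule) (congrArg Subrepresentation.toSubmodule)
  exact isIrrCharacter_character R

/-- The case `E = {1, z}`. -/
theorem good_trivial (h : Setting z E) (hE : E = zpowers z) {P : Subgroup G} (hPE : P ⊓ E = ⊥) :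
    Good z E P := by
  classical
  have hN : P ≤ normalizer (E : Set G) := hE ▸ h.zpowers_le_normalizer P
  have hcard : Nat.card E = 2 := hE ▸ h.card_zpowers
  have hsup : Nat.card ↥(P ⊔ E) = Nat.card P * 2 := by
    have := CfsgLib.FgsSix.card_sup_mul_card_inf P E hN
    rwa [hPE, Subgroup.card_bot, mul_one, hcard] at this
  have hidx : (P.subgroupOf (E ⊔ P)).index = 2 := by
    have h1 := Subgroup.card_mul_index (P.subgroupOf (E ⊔ P))
    rw [Nat.card_congr (Subgroup.subgroupOfEquivOfLe le_sup_right).toEquiv, sup_comm E P, hsup]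
      at h1
    rw [sup_comm E P]
    exact mul_left_cancel₀ Nat.card_pos.ne' h1
  let f : ↥(E ⊔ P) →* ℂˣ :=
    { toFun := fun x => if (x : G) ∈ P then 1 else -1
      map_one' := if_pos (one_mem P)
      map_mul' := fun a b => by
        have h2 := Subgroup.mul_mem_iff_of_index_two hidx (a := a) (b := b)
        simp only [mem_subgroupOf] at h2
        by_cases ha : (a : G) ∈ P <;> by_cases hb : (b : G) ∈ P <;>
          simp [ha, hb] at h2 ⊢ <;> simp [h2] }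
  refine ⟨1, fun x => (f x : ℂ), by rw [hcard]; norm_num, CfsgLib.CharactersDeep.LinearChar.isCharacter_hom f,
    fun e he => ?_⟩
  rcases h.mem_zpowers_iff'.mp (le_of_eq hE he) with he' | he'
  · show ((f e : ℂˣ) : ℂ) = _
    rw [he', val_one, show e = 1 from Subtype.ext he', map_one, Units.val_one, Nat.cast_one]
  · rw [he', val_z _ h.ne_one]
    have hzP : (e : G) ∉ P := fun hp => h.ne_one (by
      have hm : (e : G) ∈ P ⊓ E := ⟨hp, he⟩
      rw [hPE, Subgroup.mem_bot, he'] at hm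
      exact hm)
    show (((if (e : G) ∈ P then 1 else -1 : ℂˣ)) : ℂ) = _
    rw [if_neg hzP]
    simp

/-- Multiplicativity of the faithful characters along a central product. -/
theorem val_mul_val (h : Setting z E) {E₁ E₂ : Subgroup G} (hz₂ : z ∈ E₂)
    (hinf : ∀ x ∈ E₁, x ∈ E₂ → x ∈ zpowers z) {a b : G} (ha : a ∈ E₁) (hb : b ∈ E₂)
    (hz₁ : z ∈ E₁) (d₁ d₂ : ℕ) : val d₁ z a * val d₂ z b = val (d₁ * d₂) z (a * b) := by
  by_cases hA : a ∈ zpowers z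
  · rcases h.mem_zpowers_iff'.mp hA with rfl | rfl
    · rw [one_mul, val_one]
      by_cases hB : b ∈ zpowers z
      · rcases h.mem_zpowers_iff'.mp hB with rfl | rfl
        · rw [val_one, val_one]; push_cast; ring
        · rw [val_z _ h.ne_one, val_z _ h.ne_one]; push_cast; ring
      · rw [h.mem_zpowers_iff', not_or] at hB
        rw [val_other _ hB.1 hB.2, val_other _ hB.1 hB.2, mul_zero]
    · by_cases hB : b ∈ zpowers a
      · rcases h.mem_zpowers_iff'.mp hB with rfl | rfl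
        · rw [mul_one, val_one, val_z _ h.ne_one, val_z _ h.ne_one]; push_cast; ring
        · rw [h.mul_self, val_z _ h.ne_one, val_z _ h.ne_one, val_one]; push_cast; ring
      · have hB' : a * b ∉ zpowers a := fun hm =>
          hB ((Subgroup.mul_mem_cancel_left _ (mem_zpowers a)).mp hm)
        rw [h.mem_zpowers_iff', not_or] at hB hB'
        rw [val_other _ hB.1 hB.2, val_other _ hB'.1 hB'.2, mul_zero]
  · have hab : a * b ∉ zpowers z := fun hm => hA (hinf a ha (by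
      have := mul_mem (Subgroup.zpowers_le.mpr hz₂ hm) (inv_mem hb)
      rwa [mul_inv_cancel_right] at this))
    rw [h.mem_zpowers_iff', not_or] at hA hab
    rw [val_other _ hA.1 hA.2, val_other _ hab.1 hab.2, zero_mul]

/-- The central product of two extensions. -/
theorem product (h : Setting z E) {E₁ E₂ P : Subgroup G} (hsup : E₁ ⊔ E₂ = E) (hz₁ : z ∈ E₁)
    (hz₂ : z ∈ E₂) (hcomm : E₂ ≤ centralizer (E₁ : Set G))
    (hinf : ∀ x ∈ E₁, x ∈ E₂ → x ∈ zpowers z) (hP₁ : P ≤ normalizer (E₁ : Set G))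
    (hP₂ : P ≤ normalizer (E₂ : Set G)) (hPE : P ⊓ E = ⊥) {d₁ d₂ : ℕ}
    {χ₁ : ↥(E₁ ⊔ P) → ℂ} {χ₂ : ↥(E₂ ⊔ P) → ℂ}
    (hc₁ : d₁ ^ 2 * 2 = Nat.card E₁) (hc₂ : d₂ ^ 2 * 2 = Nat.card E₂)
    (hχ₁ : Cfsg.IsCharacter _ χ₁) (hχ₂ : Cfsg.IsCharacter _ χ₂)
    (hr₁ : ∀ e : ↥(E₁ ⊔ P), (e : G) ∈ E₁ → χ₁ e = val d₁ z e)
    (hr₂ : ∀ e : ↥(E₂ ⊔ P), (e : G) ∈ E₂ → χ₂ e = val d₂ z e) :
    ∃ χ : ↥(E ⊔ P) → ℂ, (d₁ * d₂) ^ 2 * 2 = Nat.card E ∧ Cfsg.IsCharacter _ χ ∧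
      (∀ e : ↥(E ⊔ P), (e : G) ∈ E → χ e = val (d₁ * d₂) z e) ∧
      ∀ (x : ↥(E ⊔ P)) (y₁ : ↥(E₁ ⊔ P)) (y₂ : ↥(E₂ ⊔ P)) (a b p : G), a ∈ E₁ → b ∈ E₂ → p ∈ P →
        (x : G) = a * b * p → (y₁ : G) = a * p → (y₂ : G) = b * p → χ x = χ₁ y₁ * χ₂ y₂ := by
  classical
  have hcom : ∀ a ∈ E₁, ∀ b ∈ E₂, a * b = b * a := fun a ha b hb =>
    mem_centralizer_iff.mp (hcomm hb) a ha
  have hN12 : E₂ ≤ normalizer (E₁ : Set G) := hcomm.trans (centralizer_le_normalizer _)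
  have hE₁ : E₁ ≤ E := hsup ▸ le_sup_left
  have hE₂ : E₂ ≤ E := hsup ▸ le_sup_right
  have hPN : P ≤ normalizer (E : Set G) := by
    intro p hp
    rw [← hsup]
    refine mem_normalizer_iff.mpr fun x => ⟨fun hx => ?_, fun hx => ?_⟩
    · obtain ⟨a, ha, b, hb, rfl⟩ := exists_eq_mul hN12 hx
      rw [show p * (a * b) * p⁻¹ = p * a * p⁻¹ * (p * b * p⁻¹) by group]
      exact mul_mem (mem_sup_left (le_normalizer_apply hP₁ hp ha))
        (mem_sup_right (le_normalizer_apply hP₂ hp hb))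
    · obtain ⟨a, ha, b, hb, hab⟩ := exists_eq_mul hN12 hx
      rw [show x = p⁻¹ * a * p * (p⁻¹ * b * p) by
        rw [show p⁻¹ * a * p * (p⁻¹ * b * p) = p⁻¹ * (a * b) * p by group, hab]; group]
      exact mul_mem (mem_sup_left (le_normalizer_apply' hP₁ hp ha))
        (mem_sup_right (le_normalizer_apply' hP₂ hp hb))
  let T : Subgroup (↥(E₁ ⊔ P) × ↥(E₂ ⊔ P) × ↥(E ⊔ P)) :=
    { carrier := {t | ∃ a ∈ E₁, ∃ b ∈ E₂, ∃ p ∈ P, (t.1 : G) = a * p ∧ (t.2.1 : G) = b * p ∧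
        (t.2.2 : G) = a * b * p}
      one_mem' := ⟨1, one_mem _, 1, one_mem _, 1, one_mem _, by simp⟩
      mul_mem' := by
        rintro s t ⟨a, ha, b, hb, p, hp, h1, h2, h3⟩ ⟨a', ha', b', hb', p', hp', h1', h2', h3'⟩
        refine ⟨a * (p * a' * p⁻¹), mul_mem ha (le_normalizer_apply hP₁ hp ha'),
          b * (p * b' * p⁻¹), mul_mem hb (le_normalizer_apply hP₂ hp hb'),
          p * p', mul_mem hp hp', ?_, ?_, ?_⟩
        · simp only [Prod.fst_mul, Subgroup.coe_mul, h1, h1']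
          rw [mul_conj_mul]
        · simp only [Prod.snd_mul, Prod.fst_mul, Subgroup.coe_mul, h2, h2']
          rw [mul_conj_mul]
        · simp only [Prod.snd_mul, Subgroup.coe_mul, h3, h3']
          rw [mul_conj_mul]
          congr 1
          rw [show p * (a' * b') * p⁻¹ = p * a' * p⁻¹ * (p * b' * p⁻¹) by group, mul_assoc a b,
            ← mul_assoc b, ← hcom _ (le_normalizer_apply hP₁ hp ha') b hb]
          group
      inv_mem' := by
        rintro s ⟨a, ha, b, hb, p, hp, h1, h2, h3⟩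
        refine ⟨p⁻¹ * a⁻¹ * p, le_normalizer_apply' hP₁ hp (inv_mem ha),
          p⁻¹ * b⁻¹ * p, le_normalizer_apply' hP₂ hp (inv_mem hb), p⁻¹, inv_mem hp, ?_, ?_, ?_⟩
        · simp only [Prod.fst_inv, Subgroup.coe_inv, h1]; group
        · simp only [Prod.snd_inv, Prod.fst_inv, Subgroup.coe_inv, h2]; group
        · simp only [Prod.snd_inv, Subgroup.coe_inv, h3, hcom a ha b hb]; group }
  let f₁ : T →* ↥(E₁ ⊔ P) := (MonoidHom.fst _ _).comp T.subtype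
  let f₂ : T →* ↥(E₂ ⊔ P) := ((MonoidHom.fst _ _).comp (MonoidHom.snd _ _)).comp T.subtype
  let π : T →* ↥(E ⊔ P) := ((MonoidHom.snd _ _).comp (MonoidHom.snd _ _)).comp T.subtype
  let tri : ∀ a ∈ E₁, ∀ b ∈ E₂, ∀ p ∈ P, T := fun a ha b hb p hp =>
    ⟨(⟨a * p, mul_mem (mem_sup_left ha) (mem_sup_right hp)⟩,
      ⟨b * p, mul_mem (mem_sup_left hb) (mem_sup_right hp)⟩,
      ⟨a * b * p, mul_mem (mem_sup_left (mul_mem (hE₁ ha) (hE₂ hb))) (mem_sup_right hp)⟩),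
      a, ha, b, hb, p, hp, rfl, rfl, rfl⟩
  have hπ : Function.Surjective π := by
    intro x
    obtain ⟨e, he, p, hp, hx⟩ := exists_eq_mul hPN x.2
    obtain ⟨a, ha, b, hb, rfl⟩ := exists_eq_mul hN12 (hsup.symm ▸ he : e ∈ E₁ ⊔ E₂)
    exact ⟨tri a ha b hb p hp, Subtype.ext hx⟩
  have hψ := isCharacter_mul (isCharacter_comp f₁ hχ₁) (isCharacter_comp f₂ hχ₂)
  obtain ⟨χ, hχ, hχπ⟩ := descend π hπ hψ (by
    rintro ⟨⟨t₁, t₂, t₃⟩, a, ha, b, hb, p, hp, h1, h2, h3⟩ ht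
    have ht' : (t₃ : G) = 1 := congrArg Subtype.val ht
    replace h1 : (t₁ : G) = a * p := h1
    replace h2 : (t₂ : G) = b * p := h2
    replace h3 : (t₃ : G) = a * b * p := h3
    rw [h3] at ht'
    have hp1 : p = 1 := by
      have hm : p ∈ P ⊓ E := mem_inf.mpr ⟨hp, by
        rw [show p = (a * b)⁻¹ from (inv_eq_of_mul_eq_one_right ht').symm]
        exact inv_mem (mul_mem (hE₁ ha) (hE₂ hb))⟩
      rwa [hPE, Subgroup.mem_bot] at hm
    subst hp1
    rw [mul_one] at h1 h2 ht'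
    show χ₁ t₁ * χ₂ t₂ = χ₁ (f₁ 1) * χ₂ (f₂ 1)
    rw [map_one, map_one, hr₁ t₁ (h1 ▸ ha), hr₂ t₂ (h2 ▸ hb), hr₁ 1 (one_mem _),
      hr₂ 1 (one_mem _), h1, h2, val_mul_val h hz₂ hinf ha hb hz₁, OneMemClass.coe_one,
      OneMemClass.coe_one, val_mul_val h hz₂ hinf (one_mem _) (one_mem _) hz₁, ht', mul_one])
  refine ⟨χ, ?_, hχ, fun e he => ?_, fun x y₁ y₂ a b p ha hb hp hx h1 h2 => ?_⟩
  · have hc := CfsgLib.FgsSix.card_sup_mul_card_inf E₂ E₁ hN12
    rw [sup_comm, hsup, show E₂ ⊓ E₁ = zpowers z from le_antisymm (fun x hx => hinf x hx.2 hx.1)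
      (le_inf (Subgroup.zpowers_le.mpr hz₂) (Subgroup.zpowers_le.mpr hz₁)), h.card_zpowers,
      ← hc₁, ← hc₂] at hc
    linarith [hc]
  · obtain ⟨a, ha, b, hb, hab⟩ := exists_eq_mul hN12 (hsup.symm ▸ he : (e : G) ∈ E₁ ⊔ E₂)
    have he' : π (tri a ha b hb 1 (one_mem _)) = e :=
      Subtype.ext ((mul_one _).trans hab)
    rw [← he', hχπ, he', ← hab]
    show χ₁ _ * χ₂ _ = _
    rw [hr₁ _ (show a * 1 ∈ E₁ by rwa [mul_one]), hr₂ _ (show b * 1 ∈ E₂ by rwa [mul_one])]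
    show val d₁ z (a * 1) * val d₂ z (b * 1) = _
    rw [mul_one, mul_one, val_mul_val h hz₂ hinf ha hb hz₁]
  · have hx' : π (tri a ha b hb p hp) = x := Subtype.ext hx.symm
    rw [← hx', hχπ]
    exact congrArg₂ (· * ·) (congrArg χ₁ (Subtype.ext h1.symm))
      (congrArg χ₂ (Subtype.ext h2.symm))

theorem good_product (h : Setting z E) {E₁ E₂ P : Subgroup G} (hsup : E₁ ⊔ E₂ = E) (hz₁ : z ∈ E₁)
    (hz₂ : z ∈ E₂) (hcomm : E₂ ≤ centralizer (E₁ : Set G))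
    (hinf : ∀ x ∈ E₁, x ∈ E₂ → x ∈ zpowers z) (hP₁ : P ≤ normalizer (E₁ : Set G))
    (hP₂ : P ≤ normalizer (E₂ : Set G)) (hPE : P ⊓ E = ⊥) (h₁ : Good z E₁ P) (h₂ : Good z E₂ P) :
    Good z E P := by
  obtain ⟨d₁, χ₁, hc₁, hχ₁, hr₁⟩ := h₁
  obtain ⟨d₂, χ₂, hc₂, hχ₂, hr₂⟩ := h₂
  obtain ⟨χ, hc, hχ, hr, -⟩ := product h hsup hz₁ hz₂ hcomm hinf hP₁ hP₂ hPE hc₁ hc₂ hχ₁ hχ₂ hr₁ hr₂
  exact ⟨_, χ, hc, hχ, hr⟩

/-- An invariant extension to a subgroup with cyclic quotient gives an extension to `E ⊔ P`. -/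
theorem good_of_cyclic (h : Setting z E) {P H : Subgroup G} (hEH : E ≤ H) (hHle : H ≤ E ⊔ P)
    (hN : E ⊔ P ≤ normalizer (H : Set G)) {C : Type*} [Group C] [IsCyclic C] (f : P →* C)
    (hf : ∀ p : P, f p = 1 → (p : G) ∈ H) {d : ℕ} (hd : d ^ 2 * 2 = Nat.card E) {Φ : H → ℂ}
    (hΦ : Cfsg.IsCharacter H Φ) (hres : ∀ e : H, (e : G) ∈ E → Φ e = val d z e)
    (hinv : ∀ g ∈ E ⊔ P, ∀ x y : H, (y : G) = g * x * g⁻¹ → Φ y = Φ x) : Good z E P := by
  set X := E ⊔ P with hX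
  haveI : (H.subgroupOf X).Normal := normal_subgroupOf_of_le_normalizer hN
  let e : H.subgroupOf X ≃* H := Subgroup.subgroupOfEquivOfLe hHle
  have hθ : Cfsg.IsIrrCharacter (H.subgroupOf X) (fun n => Φ (e n)) :=
    isIrr_comp e.toMonoidHom e.surjective (isIrr_of_extends h hd hEH hΦ hres)
  have hinv' : ∀ (g : X) (n : H.subgroupOf X),
      Φ (e ⟨g * n * g⁻¹, (inferInstance : (H.subgroupOf X).Normal).conj_mem n n.2 g⟩) = Φ (e n) := fun g n =>
    hinv g g.2 _ _ rfl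
  have hcyc : IsCyclic (X ⧸ H.subgroupOf X) := by
    let j : P →* X ⧸ H.subgroupOf X :=
      (QuotientGroup.mk' _).comp (Subgroup.inclusion le_sup_right)
    have hj : Function.Surjective j := by
      intro q
      obtain ⟨⟨x, hx⟩, rfl⟩ := QuotientGroup.mk_surjective q
      have hsplit : X ≤ H ⊔ P := sup_le (hEH.trans le_sup_left) le_sup_right
      obtain ⟨a, ha, p, hp, rfl⟩ := exists_eq_mul (le_sup_right.trans hN) (hsplit hx)
      refine ⟨⟨p, hp⟩, QuotientGroup.eq.mpr ?_⟩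
      rw [mem_subgroupOf]
      show p⁻¹ * (a * p) ∈ H
      rw [← mul_assoc]
      exact le_normalizer_apply' hN (mem_sup_right hp) ha
    haveI : IsCyclic (P ⧸ f.ker) :=
      isCyclic_of_injective (QuotientGroup.kerLift f) (QuotientGroup.kerLift_injective f)
    refine isCyclic_of_surjective (QuotientGroup.lift f.ker j fun p hp => ?_) (fun q => ?_)
    · rw [MonoidHom.mem_ker]
      exact (QuotientGroup.eq_one_iff _).mpr (hf p hp)
    · obtain ⟨p, hp⟩ := hj q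
      exact ⟨p, hp⟩
  obtain ⟨χ, hχ, hχH⟩ := CfsgLib.CharactersDeep.ExtensionCriteria.extends_of_cyclic
    (H.subgroupOf X) hθ hinv' hcyc
  refine ⟨d, χ, hd, isCharacter_of_isIrr hχ, fun x hx => ?_⟩
  rw [show χ x = _ from hχH ⟨x, hEH hx⟩]
  exact hres _ hx

/-- Two factors swapped by an element of `P`. -/
theorem good_swap (h : Setting z E) {W₁ W₂ P P₁ : Subgroup G} {s : G} (hsup : W₁ ⊔ W₂ = E)
    (hz₁ : z ∈ W₁) (hcomm : W₂ ≤ centralizer (W₁ : Set G))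
    (hinf : ∀ x ∈ W₁, x ∈ W₂ → x ∈ zpowers z) (hP₁ : P₁ ≤ P) (hidx : P₁.relIndex P = 2)
    (hsP : s ∈ P) (hsP₁ : s ∉ P₁) (hW : W₂ = W₁.map (MulAut.conj s).toMonoidHom)
    (hPN : P ≤ normalizer (E : Set G)) (hP₁W : P₁ ≤ normalizer (W₁ : Set G)) (hPE : P ⊓ E = ⊥)
    (h₁ : Good z W₁ P₁) : Good z E P := by
  classical
  haveI hP₁n : (P₁.subgroupOf P).Normal := normal_of_index_eq_two hidx
  have hs₁ : ∀ p ∈ P₁, s * p * s⁻¹ ∈ P₁ := fun p hp =>
    hP₁n.conj_mem ⟨p, hP₁ hp⟩ hp ⟨s, hsP⟩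
  have hs₂ : ∀ p ∈ P₁, s⁻¹ * p * s ∈ P₁ := fun p hp => by
    simpa [mem_subgroupOf] using hP₁n.conj_mem ⟨p, hP₁ hp⟩ hp ⟨s⁻¹, inv_mem hsP⟩
  have hss : s * s ∈ P₁ := by
    rw [← sq]
    simpa [mem_subgroupOf] using Subgroup.sq_mem_of_index_two hidx (⟨s, hsP⟩ : P)
  have hmem : ∀ {y : G}, y ∈ W₂ ↔ s⁻¹ * y * s ∈ W₁ := fun {y} => by
    rw [hW, Subgroup.mem_map]
    constructor
    · rintro ⟨x, hx, rfl⟩
      simpa [MulAut.conj_apply, mul_assoc] using hx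
    · intro hy
      exact ⟨_, hy, by simp [MulAut.conj_apply, mul_assoc]⟩
  have hback : ∀ b ∈ W₂, s * b * s⁻¹ ∈ W₁ := fun b hb => by
    have := le_normalizer_apply hP₁W hss (hmem.mp hb)
    rwa [show s * s * (s⁻¹ * b * s) * (s * s)⁻¹ = s * b * s⁻¹ by group] at this
  have hforth : ∀ a ∈ W₁, s * a * s⁻¹ ∈ W₂ := fun a ha => hmem.mpr (by
    rwa [show s⁻¹ * (s * a * s⁻¹) * s = a by group])
  have hP₁W₂ : P₁ ≤ normalizer (W₂ : Set G) := fun p hp => by
    refine mem_normalizer_iff.mpr fun y => ?_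
    rw [hmem, hmem, show s⁻¹ * (p * y * p⁻¹) * s =
      s⁻¹ * p * s * (s⁻¹ * y * s) * (s⁻¹ * p * s)⁻¹ by group]
    exact mem_normalizer_iff.mp (hP₁W (hs₂ p hp)) _
  have hz₂ : z ∈ W₂ := hmem.mpr (by rw [h.central, mul_assoc, inv_mul_cancel, mul_one]; exact hz₁)
  obtain ⟨d, χ₁, hc, hχ₁, hr₁⟩ := h₁
  have hc₂ : d ^ 2 * 2 = Nat.card W₂ := by
    rw [hc, hW, Nat.card_congr (W₁.equivMapOfInjective (MulAut.conj s).toMonoidHom (MulAut.conj s).injective).toEquiv]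
  have hback' : W₂ ⊔ P₁ ≤ (W₁ ⊔ P₁).map (MulAut.conj s).toMonoidHom := by
    refine sup_le (hW ▸ map_mono le_sup_left) fun p hp => ⟨s⁻¹ * p * s, mem_sup_right (hs₂ p hp), ?_⟩
    simp [MulAut.conj_apply, mul_assoc]
  have hcj : ∀ y ∈ W₂ ⊔ P₁, s⁻¹ * y * s ∈ W₁ ⊔ P₁ := fun y hy => by
    obtain ⟨x, hx, rfl⟩ := hback' hy
    simpa [MulAut.conj_apply, mul_assoc] using hx
  let c : ↥(W₂ ⊔ P₁) →* ↥(W₁ ⊔ P₁) :=
    { toFun := fun y => ⟨s⁻¹ * y * s, hcj y y.2⟩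
      map_one' := Subtype.ext (by simp)
      map_mul' := fun a b => Subtype.ext (by simp only [Subgroup.coe_mul]; group) }
  obtain ⟨Φ, hcE, hΦ, hrΦ, hform⟩ := product h hsup hz₁ hz₂ hcomm hinf hP₁W hP₁W₂
    (eq_bot_iff.mpr (le_trans (inf_le_inf_right E hP₁) hPE.le)) hc hc₂ hχ₁
    (isCharacter_comp c hχ₁) hr₁ (fun y hy => by
      rw [hr₁ (c y) (hmem.mp hy)]
      show val d z (s⁻¹ * y * s) = _
      have := val_conj d h.central s⁻¹ (y : G)
      rwa [inv_inv] at this)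
  have hcl := isClassFunction_of_isCharacter hχ₁
  have hP₁N : P₁ ≤ normalizer (E : Set G) := hP₁.trans hPN
  have hinv_s : ∀ x y : ↥(E ⊔ P₁), (y : G) = s * x * s⁻¹ → Φ y = Φ x := by
    intro x y hxy
    obtain ⟨e, he, p, hp, hx⟩ := exists_eq_mul hP₁N x.2
    obtain ⟨a, ha, b, hb, rfl⟩ := exists_eq_mul (hcomm.trans (centralizer_le_normalizer _))
      (hsup.symm ▸ he : e ∈ W₁ ⊔ W₂)
    have hy : (y : G) = s * b * s⁻¹ * (s * a * s⁻¹) * (s * p * s⁻¹) := by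
      rw [hxy, ← hx, mem_centralizer_iff.mp (hcomm hb) a ha]; group
    rw [hform x ⟨a * p, mul_mem (mem_sup_left ha) (mem_sup_right hp)⟩
        ⟨b * p, mul_mem (mem_sup_left hb) (mem_sup_right hp)⟩ a b p ha hb hp hx.symm rfl rfl,
      hform y ⟨_, mul_mem (mem_sup_left (hback b hb)) (mem_sup_right (hs₁ p hp))⟩
        ⟨_, mul_mem (mem_sup_left (hforth a ha)) (mem_sup_right (hs₁ p hp))⟩ _ _ _ (hback b hb)
        (hforth a ha) (hs₁ p hp) hy rfl rfl, mul_comm]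
    refine congrArg₂ (· * ·) (congrArg χ₁ (Subtype.ext ?_)) ?_
    · show s⁻¹ * (s * a * s⁻¹ * (s * p * s⁻¹)) * s = a * p
      group
    · refine Eq.trans ?_ (hcl _ ⟨s * s, mem_sup_right hss⟩)
      refine congrArg χ₁ (Subtype.ext ?_)
      show s * b * s⁻¹ * (s * p * s⁻¹) = s * s * (s⁻¹ * (b * p) * s) * (s * s)⁻¹
      group
  have hmk : ∀ g ∈ P, g ∈ P₁ ∨ s⁻¹ * g ∈ P₁ := by
    intro g hg
    by_cases hgP : g ∈ P₁
    · exact Or.inl hgP
    · refine Or.inr ?_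
      have := (Subgroup.mul_mem_iff_of_index_two hidx (a := (⟨s⁻¹, inv_mem hsP⟩ : P))
        (b := ⟨g, hg⟩)).mpr
      simp only [mem_subgroupOf, inv_mem_iff] at this
      exact this (by simp [hgP, hsP₁])
  have hHN : E ⊔ P ≤ normalizer ((E ⊔ P₁ : Subgroup G) : Set G) := by
    refine sup_le (le_sup_left.trans le_normalizer) fun g hg => ?_
    refine mem_normalizer_iff.mpr fun x => ?_
    have key : ∀ g ∈ P, ∀ x ∈ (E ⊔ P₁), g * x * g⁻¹ ∈ E ⊔ P₁ := fun g hg x hx => by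
      obtain ⟨e, he, p, hp, rfl⟩ := exists_eq_mul hP₁N hx
      rw [show g * (e * p) * g⁻¹ = g * e * g⁻¹ * (g * p * g⁻¹) by group]
      exact mul_mem (mem_sup_left (le_normalizer_apply hPN hg he))
        (mem_sup_right (hP₁n.conj_mem ⟨p, hP₁ hp⟩ hp ⟨g, hg⟩))
    exact ⟨key g hg x, fun hx => by simpa [mul_assoc] using key g⁻¹ (inv_mem hg) _ hx⟩
  haveI : Fact (Nat.Prime 2) := ⟨Nat.prime_two⟩
  haveI : IsCyclic (P ⧸ P₁.subgroupOf P) := isCyclic_of_prime_card (p := 2) hidx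
  refine good_of_cyclic h (H := E ⊔ P₁) le_sup_left (sup_le_sup_left hP₁ E) hHN
    (QuotientGroup.mk' (P₁.subgroupOf P)) (fun p hp => mem_sup_right ((QuotientGroup.eq_one_iff p).mp hp))
    hcE hΦ hrΦ fun g hg x y hxy => ?_
  have hclΦ := isClassFunction_of_isCharacter hΦ
  have hin : ∀ g ∈ (E ⊔ P₁), ∀ x y : ↥(E ⊔ P₁), (y : G) = g * x * g⁻¹ → Φ y = Φ x := fun g hg x y hxy => by
    rw [show y = ⟨g, hg⟩ * x * ⟨g, hg⟩⁻¹ from Subtype.ext hxy]
    exact hclΦ _ _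
  obtain ⟨e, he, p, hp, rfl⟩ := exists_eq_mul hPN hg
  rcases hmk p hp with hp' | hp'
  · exact hin _ (mul_mem (mem_sup_left he) (mem_sup_right hp')) x y hxy
  · have hq : s⁻¹ * p * x * (s⁻¹ * p)⁻¹ ∈ E ⊔ P₁ :=
      mul_mem (mul_mem (mem_sup_right hp') x.2) (inv_mem (mem_sup_right hp'))
    have hq' : s * (s⁻¹ * p * x * (s⁻¹ * p)⁻¹) * s⁻¹ ∈ E ⊔ P₁ :=
      (mem_normalizer_iff.mp (hHN (mem_sup_right hsP)) _).mp hq
    rw [hin e (mem_sup_left he) ⟨_, hq'⟩ y (by rw [hxy]; group),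
      hinv_s ⟨_, hq⟩ _ rfl, hin _ (mem_sup_right hp') x ⟨_, hq⟩ rfl]

end CfsgLib.ExtraExt
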