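import Cfsg.Agent.ExtraExt.Base
import Cfsg.Agent.Coprime.Generation
import Cfsg.Agent.S0205

/-!
# Reduction to the fixed-point-free case

`Datum z E P K`: an odd order group `K` acting on `E` with trivial fixed points, normalized by a
2-group `P`. Then the faithful character of `E` is the restriction of a character of `E ⊔ P`.
-/

set_option autoImplicit false
set_option linter.style.haveILetI false
set_option linter.unusedSectionVars false

namespace CfsgLib.ExtraExt

open Subgroup CfsgLib.Characters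
open scoped commutatorElement

universe u

variable {G : Type u} [Group G]

theorem le_normalizer_of_conj_mem {A S : Subgroup G}
    (h : ∀ g ∈ A, ∀ x ∈ S, g * x * g⁻¹ ∈ S) : A ≤ normalizer (S : Set G) := fun g hg =>
  mem_normalizer_iff.mpr fun x => ⟨h g hg x, fun hx => by
    simpa [mul_assoc] using h g⁻¹ (inv_mem hg) _ hx⟩

theorem le_normalizer_inf {A S T : Subgroup G} (hS : A ≤ normalizer (S : Set G))
    (hT : A ≤ normalizer (T : Set G)) : A ≤ normalizer ((S ⊓ T : Subgroup G) : Set G) :=
  le_normalizer_of_conj_mem fun _ hg _ hx =>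
    ⟨le_normalizer_apply hS hg hx.1, le_normalizer_apply hT hg hx.2⟩

theorem le_normalizer_centralizer {A S : Subgroup G} (hS : A ≤ normalizer (S : Set G)) :
    A ≤ normalizer ((centralizer (S : Set G) : Subgroup G) : Set G) :=
  le_normalizer_of_conj_mem fun g hg x hx => mem_centralizer_iff.mpr fun s hs => by
    have h1 := mem_centralizer_iff.mp hx _ (le_normalizer_apply' hS hg hs)
    calc s * (g * x * g⁻¹) = g * (g⁻¹ * s * g * x) * g⁻¹ := by group
      _ = g * (x * (g⁻¹ * s * g)) * g⁻¹ := by rw [h1]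
      _ = g * x * g⁻¹ * s := by group

/-- The fixed points of `L` in `E`. -/
def fixd (E L : Subgroup G) : Subgroup G := E ⊓ centralizer (L : Set G)

theorem fixd_normalized {E L A : Subgroup G} (hE : A ≤ normalizer (E : Set G))
    (hL : A ≤ normalizer (L : Set G)) : A ≤ normalizer (fixd E L : Set G) :=
  le_normalizer_inf hE (le_normalizer_centralizer hL)

theorem map_fixd {E L : Subgroup G} {g : G} (hg : g ∈ normalizer (E : Set G)) :
    (fixd E L).map (MulAut.conj g).toMonoidHom = fixd E (L.map (MulAut.conj g).toMonoidHom) := by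
  refine le_antisymm ?_ fun x hx => ⟨g⁻¹ * x * g, ⟨?_, mem_centralizer_iff.mpr fun l hl => ?_⟩, ?_⟩
  · rintro _ ⟨e, ⟨he, heC⟩, rfl⟩
    refine ⟨(mem_normalizer_iff.mp hg e).mp he, mem_centralizer_iff.mpr ?_⟩
    rintro _ ⟨l, hl, rfl⟩
    rw [← map_mul, ← map_mul, mem_centralizer_iff.mp heC l hl]
  · have h1 := (mem_normalizer_iff.mp (inv_mem hg) x).mp hx.1
    rwa [inv_inv] at h1
  · have h1 := mem_centralizer_iff.mp hx.2 (g * l * g⁻¹) ⟨l, hl, rfl⟩
    calc l * (g⁻¹ * x * g) = g⁻¹ * (g * l * g⁻¹ * x) * g := by group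
      _ = g⁻¹ * (x * (g * l * g⁻¹)) * g := by rw [h1]
      _ = g⁻¹ * x * g * l := by group
  · simp [MulAut.conj_apply, mul_assoc]

variable [Finite G]

/-- An odd order group acting with trivial fixed points, normalized by a 2-group. -/
structure Datum (z : G) (E P K : Subgroup G) : Prop where
  setting : Setting z E
  kE : K ≤ normalizer (E : Set G)
  pE : P ≤ normalizer (E : Set G)
  pK : P ≤ normalizer (K : Set G)
  odd : Odd (Nat.card K)
  two : IsPGroup 2 P
  disj : P ⊓ E = ⊥
  fix : fixd E K ≤ zpowers z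

/-- The size used for the induction. -/
noncomputable def size (E P K : Subgroup G) : ℕ := Nat.card E + Nat.card P + Nat.card K

theorem card_lt_of_lt {A B : Subgroup G} (h : A ≤ B) (hne : A ≠ B) :
    Nat.card A < Nat.card B :=
  lt_of_le_of_ne (Subgroup.card_le_of_le h) fun e => hne (eq_of_le_of_card_ge h e.ge)

variable {z : G} {E P K : Subgroup G}

theorem Datum.sub (D : Datum z E P K) {A B P' : Subgroup G} (hA : A ≤ E) (hz : z ∈ A)
    (hsup : E ≤ A ⊔ B) (hAB : ∀ a ∈ A, ∀ b ∈ B, a * b = b * a) (hKA : K ≤ normalizer (A : Set G))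
    (hP' : P' ≤ P) (hPA : P' ≤ normalizer (A : Set G)) : Datum z A P' K where
  setting := D.setting.of_commuting hA hz hsup hAB
  kE := hKA
  pE := hPA
  pK := hP'.trans D.pK
  odd := D.odd
  two := D.two.to_le hP'
  disj := eq_bot_iff.mpr ((inf_le_inf hP' hA).trans D.disj.le)
  fix := (inf_le_inf_right _ hA).trans D.fix

/-- Decomposition along a complemented invariant subgroup. -/
theorem Datum.good_decomp (D : Datum z E P K) {A : Subgroup G} (hA : Compl z E A) (hne : A ≠ E)
    (hnz : A ≠ zpowers z) (hKA : K ≤ normalizer (A : Set G)) (hPA : P ≤ normalizer (A : Set G))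
    (IH : ∀ E' P' K' : Subgroup G, Datum z E' P' K' → size E' P' K' < size E P K → Good z E' P') :
    Good z E P := by
  set B := E ⊓ centralizer (A : Set G) with hB
  have hzB : z ∈ B := mem_inf.mpr ⟨D.setting.mem, D.setting.zpowers_le_centralizer A (mem_zpowers z)⟩
  have hcomm : B ≤ centralizer (A : Set G) := inf_le_right
  have hAB : ∀ a ∈ A, ∀ b ∈ B, a * b = b * a := fun a ha b hb =>
    mem_centralizer_iff.mp (hcomm hb) a ha
  have hinf : ∀ x ∈ A, x ∈ B → x ∈ zpowers z := by
    intro x hxA hxB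
    refine D.setting.mem_zpowers_iff'.mpr (D.setting.center x (hA.le hxA) fun e he => ?_)
    obtain ⟨a, ha, b, hb, rfl⟩ := hA.exists_eq he
    have h1 : Commute x a := (hAB a ha x hxB).symm
    exact (h1.mul_right (hAB x hxA b hb)).eq
  have hBne : B ≠ E := fun e => hnz (le_antisymm (fun a ha => hinf a ha (e ▸ hA.le ha))
    (Subgroup.zpowers_le.mpr hA.mem))
  have hKB : K ≤ normalizer (B : Set G) := le_normalizer_inf D.kE (le_normalizer_centralizer hKA)
  have hPB : P ≤ normalizer (B : Set G) := le_normalizer_inf D.pE (le_normalizer_centralizer hPA)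
  have hsup : A ⊔ B = E := le_antisymm (sup_le hA.le inf_le_left) hA.sup
  refine good_product D.setting hsup hA.mem hzB hcomm hinf hPA hPB D.disj
    (IH A P K (D.sub hA.le hA.mem hA.sup hAB hKA le_rfl hPA) ?_)
    (IH B P K (D.sub inf_le_left hzB (by rw [sup_comm]; exact hA.sup)
      (fun b hb a ha => (hAB a ha b hb).symm) hKB le_rfl hPB) ?_)
  · have := card_lt_of_lt hA.le hne
    rw [size, size]; omega
  · have := card_lt_of_lt (A := B) (B := E) inf_le_left hBne
    rw [size, size]; omega

theorem coprime_of_le (D : Datum z E P K) {B A : Subgroup G} (hB : B ≤ K) (hA : A ≤ E) :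
    (Nat.card B).Coprime (Nat.card A) := by
  haveI : Fact (Nat.Prime 2) := ⟨Nat.prime_two⟩
  obtain ⟨n, hn⟩ := IsPGroup.iff_card.mp (D.setting.isPGroup.to_le hA)
  rw [hn]
  exact (Nat.coprime_two_right.mpr (D.odd.of_dvd_nat (Subgroup.card_dvd_of_le hB))).pow_right n

theorem isSolvable_of_le (D : Datum z E P K) {A : Subgroup G} (hA : A ≤ E) :
    Group.IsSolvable A := by
  haveI : Fact (Nat.Prime 2) := ⟨Nat.prime_two⟩
  haveI := (D.setting.isPGroup.to_le hA).isNilpotent
  infer_instance

/-- The main induction. -/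
theorem good_of_datum : ∀ (n : ℕ) (E P K : Subgroup G), size E P K = n → Datum z E P K →
    Good z E P := by
  intro n
  induction n using Nat.strong_induction_on with
  | _ n ih =>
  rintro E P K rfl D
  have IH : ∀ E' P' K' : Subgroup G, Datum z E' P' K' → size E' P' K' < size E P K →
      Good z E' P' := fun E' P' K' D' h => ih _ h E' P' K' rfl D'
  classical
  have S := D.setting
  haveI : Fact (Nat.Prime 2) := ⟨Nat.prime_two⟩
  by_cases hE : E = zpowers z
  · exact good_trivial S hE D.disj
  -- every proper invariant subgroup of `K` centralizes `E`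
  by_cases hsplit : ∃ B : Subgroup G, B ≤ K ∧ B ≠ K ∧ K ≤ normalizer (B : Set G) ∧
      P ≤ normalizer (B : Set G) ∧ ¬ B ≤ centralizer (E : Set G)
  · obtain ⟨B, hBK, hBne, hKB, hPB, hBC⟩ := hsplit
    by_cases hF : fixd E B = zpowers z
    · refine IH E P B ⟨S, hBK.trans D.kE, D.pE, hPB, D.odd.of_dvd_nat (Subgroup.card_dvd_of_le hBK),
        D.two, D.disj, hF.le⟩ ?_
      have := card_lt_of_lt hBK hBne
      rw [size, size]; omega
    · refine D.good_decomp (A := fixd E B) (compl_fixed S (hBK.trans D.kE)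
        (D.odd.of_dvd_nat (Subgroup.card_dvd_of_le hBK))) (fun e => hBC ?_) hF
        (fixd_normalized D.kE hKB) (fixd_normalized D.pE hPB) IH
      have h1 : E ≤ centralizer (B : Set G) := e ▸ inf_le_right
      exact le_centralizer_symm h1
  push Not at hsplit
  set C := K ⊓ centralizer (E : Set G) with hC
  have hKne : ¬ K ≤ centralizer (E : Set G) := fun h1 => hE (le_antisymm
    (fun e he => D.fix ⟨he, le_centralizer_symm h1 he⟩) S.zpowers_le)
  haveI : Group.IsSolvable K := Cfsg.Agent.S0205.result D.odd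
  have hKK : ⁅K, K⁆ ≤ C := by
    have hle : ⁅K, K⁆ ≤ K :=
      commutator_le.mpr fun a ha b hb => mul_mem (mul_mem (mul_mem ha hb) (inv_mem ha)) (inv_mem hb)
    refine le_inf hle (hsplit _ hle (fun e => ?_) ?_ ?_)
    · haveI : Nontrivial K := (Subgroup.nontrivial_iff_ne_bot K).mpr fun h => hKne (h ▸ bot_le)
      refine (Group.IsSolvable.commutator_lt_top_of_nontrivial K).ne ?_
      apply Subgroup.map_injective K.subtype_injective
      rw [map_subtype_commutator, e, ← MonoidHom.range_eq_map, Subgroup.range_subtype]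
    · exact le_normalizer_of_conj_mem fun g hg x hx => by
        have h1 : x ∈ ⁅K, K⁆ := hx
        rw [show g * x * g⁻¹ = ⁅g, x⁆ * x by rw [commutatorElement_def]; group]
        exact mul_mem (commutator_mem_commutator hg (hle h1)) h1
    · exact D.pK.trans (fun g hg => by
        have h1 : (⁅K, K⁆).map (MulAut.conj g).toMonoidHom = ⁅K, K⁆ := by
          rw [map_commutator]
          have h2 : K.map (MulAut.conj g).toMonoidHom = K := by
            refine le_antisymm ?_ fun x hx => ⟨g⁻¹ * x * g, ?_, by simp [MulAut.conj_apply, mul_assoc]⟩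
            · rintro _ ⟨x, hx, rfl⟩
              exact (mem_normalizer_iff.mp hg x).mp hx
            · have h3 := (mem_normalizer_iff.mp (inv_mem hg) x).mp hx
              rwa [inv_inv] at h3
          rw [h2]
        refine mem_normalizer_iff.mpr fun x => ?_
        conv_lhs => rw [← Subgroup.mem_map_iff_mem (MulAut.conj g).injective (f := (MulAut.conj g).toMonoidHom), h1]
        rfl)
  have hCK : C ≤ K := inf_le_left
  -- subgroups above `C` are normal in `K`
  have hnorm : ∀ L : Subgroup G, C ≤ L → L ≤ K → K ≤ normalizer (L : Set G) := fun L hCL hLK =>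
    le_normalizer_of_conj_mem fun g hg x hx => by
      rw [show g * x * g⁻¹ = ⁅g, x⁆ * x by rw [commutatorElement_def]; group]
      exact mul_mem (hCL (hKK (commutator_mem_commutator hg (hLK hx)))) hx
  by_cases hall : ∀ L : Subgroup G, C ≤ L → L ≤ K → L ≠ C → fixd E L = zpowers z
  · -- fixed-point-free action of `K / C`
    have hfix : ∀ x ∈ K, x ∉ centralizer (E : Set G) → ∀ y ∈ E, x * y = y * x → y ∈ zpowers z := by
      intro x hx hxC y hy hxy
      have h1 := hall (C ⊔ zpowers x) le_sup_left (sup_le hCK (Subgroup.zpowers_le.mpr hx))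
        fun e => hxC (e ▸ mem_sup_right (mem_zpowers x) : x ∈ C).2
      refine h1.le (mem_inf.mpr ⟨hy, ?_⟩)
      have h2 : C ⊔ zpowers x ≤ centralizer ({y} : Set G) := sup_le
        (fun c hc => mem_centralizer_singleton_iff.mpr (mem_centralizer_iff.mp hc.2 y hy).symm)
        (Subgroup.zpowers_le.mpr (mem_centralizer_singleton_iff.mpr hxy))
      exact mem_centralizer_iff.mpr fun c hc => mem_centralizer_singleton_iff.mp (h2 hc)
    let f : K →* MulAut E := E.normalizerMonoidHom.comp (inclusion D.kE)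
    have hf : ∀ a b : K, f a = f b ↔ SameOn E (a : G) b := fun a b => by
      refine ⟨fun h e he => ?_, fun h => ?_⟩
      · exact congrArg Subtype.val (DFunLike.congr_fun h (⟨e, he⟩ : E))
      · exact MulEquiv.ext fun e => Subtype.ext (h e e.2)
    have hfC : ∀ a : K, f a = 1 ↔ (a : G) ∈ centralizer (E : Set G) := fun a => by
      rw [← map_one f, hf]
      refine ⟨fun h => mem_centralizer_iff.mpr fun e he => ?_, fun h e he => ?_⟩
      · have h1 := h e he
        rw [OneMemClass.coe_one, one_mul, inv_one, mul_one, mul_inv_eq_iff_eq_mul] at h1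
        exact h1.symm
      · rw [OneMemClass.coe_one, one_mul, inv_one, mul_one, ← mem_centralizer_iff.mp h e he,
          mul_inv_cancel_right]
    have hcommf : ∀ a b : K, f a * f b = f b * f a := fun a b => by
      rw [← commutatorElement_eq_one_iff_mul_comm, ← map_commutatorElement, hfC]
      exact (hKK (by simpa [commutatorElement_def] using
        commutator_mem_commutator a.2 b.2)).2
    obtain ⟨a₀, ha₀⟩ : ∃ a : K, (a : G) ∉ centralizer (E : Set G) := by
      by_contra h
      push Not at h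
      exact hKne fun x hx => h ⟨x, hx⟩
    have hA₀ne : f a₀ ≠ 1 := fun h => ha₀ ((hfC a₀).mp h)
    obtain ⟨q, hq, hqd⟩ := Nat.exists_prime_and_dvd (n := orderOf (f a₀))
      (fun h => hA₀ne (orderOf_eq_one_iff.mp h))
    haveI := Fact.mk hq
    have hq2 : q ≠ 2 := by
      rintro rfl
      have h2 : 2 ∣ Nat.card K := hqd.trans ((orderOf_map_dvd f a₀).trans (orderOf_dvd_natCard a₀))
      exact Nat.not_even_iff_odd.mpr D.odd (even_iff_two_dvd.mpr h2)
    -- `K / C` has exponent `q`
    let B : Subgroup K :=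
      { carrier := {a | f a ^ q = 1}
        one_mem' := by simp
        mul_mem' := fun {a b} (ha : f a ^ q = 1) (hb : f b ^ q = 1) => by
          show f (a * b) ^ q = 1
          rw [map_mul, (show Commute (f a) (f b) from hcommf a b).mul_pow, ha, hb, one_mul]
        inv_mem' := fun {a} (ha : f a ^ q = 1) => by
          show f a⁻¹ ^ q = 1
          rw [map_inv, inv_pow, ha, inv_one] }
    have hBK : B.map K.subtype = K := by
      by_contra hne
      have hle : B.map K.subtype ≤ K := map_subtype_le _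
      have hCB : C ≤ B.map K.subtype := fun c hc => ⟨⟨c, hc.1⟩, by
        show f ⟨c, hc.1⟩ ^ q = 1
        rw [(hfC _).mpr hc.2, one_pow], rfl⟩
      have hconj : P ≤ normalizer ((B.map K.subtype : Subgroup G) : Set G) := by
        refine le_normalizer_of_conj_mem fun g hg x hx => ?_
        obtain ⟨⟨a, haK⟩, ha, rfl⟩ := hx
        have hgK : g * a * g⁻¹ ∈ K := le_normalizer_apply D.pK hg haK
        refine ⟨⟨_, hgK⟩, ?_, rfl⟩
        have ha' : f (⟨a, haK⟩ ^ q) = 1 := by rw [map_pow]; exact ha
        rw [hfC] at ha'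
        show f ⟨g * a * g⁻¹, hgK⟩ ^ q = 1
        rw [← map_pow, hfC]
        rw [SubgroupClass.coe_pow, conj_pow]
        exact le_normalizer_apply (le_normalizer_centralizer D.pE) hg ha'
      have h1 := hsplit _ hle hne (hnorm _ hCB hle) hconj
      obtain ⟨m, hm⟩ := hqd
      have h2 : f (a₀ ^ m) ≠ 1 := fun h3 => by
        rw [map_pow, ← orderOf_dvd_iff_pow_eq_one, hm] at h3
        have hm0 : 0 < m := Nat.pos_of_ne_zero fun e => (orderOf_pos (f a₀)).ne' (by rw [hm, e, mul_zero])
        exact absurd (Nat.le_of_dvd hm0 h3)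
          (not_le.mpr (lt_mul_of_one_lt_left hm0 hq.one_lt))
      refine h2 ((hfC _).mpr (h1 ⟨a₀ ^ m, ?_, rfl⟩))
      show f (a₀ ^ m) ^ q = 1
      rw [map_pow, ← pow_mul, mul_comm, ← hm, pow_orderOf_eq_one]
    -- and is cyclic
    let A₀ : Subgroup (MulAut E) := f.range
    have hA₀comm : ∀ a b : A₀, a * b = b * a := fun a b => by
      obtain ⟨⟨_, x, rfl⟩, ⟨_, y, rfl⟩⟩ := a, b
      exact Subtype.ext (hcommf x y)
    haveI : IsMulCommutative A₀ := IsMulCommutative.of_comm hA₀comm
    haveI : Finite (E ⋊[A₀.subtype] ↥A₀) := Finite.of_equiv _ SemidirectProduct.equivProd.symm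
    have hcyc : IsCyclic A₀ := by
      by_contra hnc
      let iE : ↥E →* E ⋊[A₀.subtype] ↥A₀ := SemidirectProduct.inl
      let iA : ↥A₀ →* E ⋊[A₀.subtype] ↥A₀ := SemidirectProduct.inr
      haveI : IsMulCommutative iA.range := IsMulCommutative.of_comm fun a b => by
        obtain ⟨⟨_, x, rfl⟩, ⟨_, y, rfl⟩⟩ := a, b
        exact Subtype.ext (by simp only [Subgroup.coe_mul, ← map_mul, hA₀comm x y])
      have hAdvd : Nat.card A₀ ∣ Nat.card K := Subgroup.card_range_dvd f
      have hgen := CfsgLib.Coprime.le_of_forall_inf_centralizer_le (G := iE.range) (A := iA.range)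
        (fun h => hnc ((MonoidHom.ofInjective
          (SemidirectProduct.inr_injective (φ := A₀.subtype))).isCyclic.mpr h))
        (le_normalizer_of_conj_mem (by
          rintro _ ⟨a, rfl⟩ _ ⟨e, rfl⟩
          refine ⟨A₀.subtype a e, ?_⟩
          rw [← map_inv iA]
          exact SemidirectProduct.inl_aut (φ := A₀.subtype) a e))
        (by
          rw [← Nat.card_congr (MonoidHom.ofInjective
              (SemidirectProduct.inr_injective (φ := A₀.subtype))).toEquiv,
            ← Nat.card_congr (MonoidHom.ofInjective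
              (SemidirectProduct.inl_injective (φ := A₀.subtype))).toEquiv]
          exact (coprime_of_le D le_rfl le_rfl).coprime_dvd_left hAdvd)
        (W := ((zpowers z).subgroupOf E).map iE) (by
          rintro _ ⟨a, rfl⟩ ha1 _ ⟨⟨e, rfl⟩, he⟩
          refine ⟨e, ?_, rfl⟩
          obtain ⟨_, x, rfl⟩ := a
          have hx : (x : G) ∉ centralizer (E : Set G) := fun h => ha1 (by
            rw [show (⟨f x, x, rfl⟩ : A₀) = 1 from Subtype.ext ((hfC x).mpr h), map_one])
          refine hfix x x.2 hx e e.2 ?_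
          have h1 := SemidirectProduct.inl_aut (φ := A₀.subtype) ⟨f x, x, rfl⟩ e
          rw [map_inv, ← mem_centralizer_singleton_iff.mp he, mul_inv_cancel_right] at h1
          have h2 : f x e = e := SemidirectProduct.inl_injective h1
          exact mul_inv_eq_iff_eq_mul.mp (congrArg Subtype.val h2))
      refine hE (le_antisymm (fun e he => ?_) S.zpowers_le)
      obtain ⟨e', he', hee⟩ := hgen ⟨⟨e, he⟩, rfl⟩
      rw [SemidirectProduct.inl_injective hee] at he'
      exact he'
    obtain ⟨⟨_, k, rfl⟩, hk⟩ := hcyc.exists_generator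
    have hkC : (k : G) ∉ centralizer (E : Set G) := fun h => hA₀ne (by
      have h1 := hk ⟨f a₀, a₀, rfl⟩
      rw [show (⟨f k, k, rfl⟩ : A₀) = 1 from Subtype.ext ((hfC k).mpr h), Subgroup.zpowers_one_eq_bot,
        Subgroup.mem_bot] at h1
      exact congrArg Subtype.val h1)
    have hkq : f (k ^ q) = 1 := by
      have h1 : (k : G) ∈ B.map K.subtype := hBK.symm ▸ k.2
      obtain ⟨a, ha, hak⟩ := h1
      rw [show k = a from Subtype.ext hak.symm, map_pow]
      exact ha
    refine good_base S hq2 (D.kE k.2) D.pE D.two D.disj (q := q) (k := (k : G)) ?_ ?_ ?_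
    · have h1 := (hf (k ^ q) 1).mp (hkq.trans (map_one f).symm)
      rwa [SubgroupClass.coe_pow, OneMemClass.coe_one] at h1
    · intro y hy hyk
      refine S.mem_zpowers_iff'.mp (hfix k k.2 hkC y hy ?_)
      rcases hyk with h1 | h1
      · exact mul_inv_eq_iff_eq_mul.mp h1
      · exfalso
        have h2 : ∀ m : ℕ, (k : G) ^ m * y * ((k : G) ^ m)⁻¹ = z ^ m * y := by
          intro m
          induction m with
          | zero => simp
          | succ m ih =>
            rw [pow_succ', mul_inv_rev, show (k : G) * (k : G) ^ m * y * (((k : G) ^ m)⁻¹ * (k : G)⁻¹)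
              = (k : G) * ((k : G) ^ m * y * ((k : G) ^ m)⁻¹) * (k : G)⁻¹ by group, ih, ← mul_assoc,
              show (k : G) * z ^ m = z ^ m * k from
                ((show Commute (k : G) z from S.central k).pow_right m).eq]
            rw [mul_assoc (z ^ m), mul_assoc (z ^ m), h1, ← mul_assoc, ← pow_succ, pow_succ']
        have h3 := h2 (orderOf (k : G))
        obtain ⟨r, hr⟩ : Odd (orderOf (k : G)) :=
          D.odd.of_dvd_nat (by rw [Subgroup.orderOf_coe]; exact orderOf_dvd_natCard k)
        rw [pow_orderOf_eq_one, one_mul, inv_one, mul_one, hr, pow_succ, pow_mul, sq, S.mul_self,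
          one_pow, one_mul] at h3
        exact S.ne_one (mul_eq_right.mp h3.symm)
    · intro p hp
      have hpk : p * k * p⁻¹ ∈ K := le_normalizer_apply D.pK hp k.2
      obtain ⟨i, hi⟩ := Subgroup.mem_zpowers_iff.mp (hk ⟨f ⟨_, hpk⟩, _, rfl⟩)
      have hi' : f ⟨_, hpk⟩ = f (k ^ i) := by
        rw [map_zpow]; exact (congrArg Subtype.val hi).symm
      refine ⟨(i % (orderOf k : ℤ)).toNat, ?_⟩
      have h1 := (hf _ _).mp hi'
      have h2 : k ^ (i % (orderOf k : ℤ)).toNat = k ^ i := by
        rw [← zpow_natCast, Int.toNat_of_nonneg (Int.emod_nonneg _ (by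
          exact_mod_cast (orderOf_pos k).ne')), zpow_mod_orderOf]
      rwa [← h2, SubgroupClass.coe_pow] at h1
  · -- a maximal subgroup with fixed points
    push Not at hall
    obtain ⟨L₀, hCL₀, hL₀K, hL₀C, hL₀⟩ := hall
    obtain ⟨L, hL₀L, hLmax⟩ := Finite.exists_le_maximal
      (p := fun L : Subgroup G => C ≤ L ∧ L ≤ K ∧ fixd E L ≠ zpowers z) ⟨hCL₀, hL₀K, hL₀⟩
    obtain ⟨hCL, hLK, hLfix⟩ := hLmax.prop
    have hLKne : L ≠ K := fun e => hLfix (le_antisymm (e ▸ D.fix)
      (le_inf S.zpowers_le (S.zpowers_le_centralizer L)))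
    have hLC : ¬ L ≤ centralizer (E : Set G) := fun h =>
      hL₀C (le_antisymm (le_inf hL₀K (hL₀L.trans h)) hCL₀)
    have hPL : ¬ P ≤ normalizer (L : Set G) := fun h =>
      hLC (hsplit L hLK hLKne (hnorm L hCL hLK) h)
    -- conjugates of `L`
    let cj : G → Subgroup G := fun g => L.map (MulAut.conj g).toMonoidHom
    have hcj : ∀ g ∈ P, C ≤ cj g ∧ cj g ≤ K := fun g hg => by
      refine ⟨fun c hc => ?_, ?_⟩
      · refine ⟨g⁻¹ * c * g, hCL ?_, by simp [MulAut.conj_apply, mul_assoc]⟩
        exact ⟨le_normalizer_apply' D.pK hg hc.1,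
          le_normalizer_apply' (le_normalizer_centralizer D.pE) hg hc.2⟩
      · rintro _ ⟨x, hx, rfl⟩
        exact le_normalizer_apply D.pK hg (hLK hx)
    have hcjmax : ∀ g ∈ P, ∀ M : Subgroup G, cj g ≤ M → C ≤ M → M ≤ K →
        fixd E M ≠ zpowers z → M ≤ cj g := by
      intro g hg M hgM hCM hMK hM
      let M' := M.map (MulAut.conj g⁻¹).toMonoidHom
      have h1 : L ≤ M' := fun x hx => ⟨g * x * g⁻¹, hgM ⟨x, hx, rfl⟩, by
        simp [MulAut.conj_apply, mul_assoc]⟩
      have h2 : C ≤ M' ∧ M' ≤ K ∧ fixd E M' ≠ zpowers z := by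
        refine ⟨hCL.trans h1, ?_, fun e => hM ?_⟩
        · rintro _ ⟨x, hx, rfl⟩
          exact le_normalizer_apply D.pK (inv_mem hg) (hMK hx)
        · refine le_antisymm (fun x hx => ?_) (le_inf S.zpowers_le (S.zpowers_le_centralizer M))
          have h3 : g⁻¹ * x * g⁻¹⁻¹ ∈ fixd E M' := by
            rw [← map_fixd (D.pE (inv_mem hg))]
            exact ⟨x, hx, rfl⟩
          rw [e] at h3
          have h4 := le_normalizer_apply (S.zpowers_le_normalizer P) hg h3
          rwa [show g * (g⁻¹ * x * g⁻¹⁻¹) * g⁻¹ = x by group] at h4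
      intro x hx
      exact ⟨g⁻¹ * x * g, hLmax.le_of_ge h2 h1 ⟨x, hx, by simp [MulAut.conj_apply]⟩,
        by simp [MulAut.conj_apply, mul_assoc]⟩
    -- different conjugates have commuting fixed points
    have hcomm : ∀ g ∈ P, ∀ g' ∈ P, cj g ≠ cj g' →
        fixd E (cj g) ≤ centralizer (fixd E (cj g') : Set G) := by
      intro g hg g' hg' hne
      have hBn : cj g' ≤ normalizer (E : Set G) := (hcj g' hg').2.trans D.kE
      have hcen := le_centralizer_symm (fixed_commutes S hBn)
      have hAn : cj g' ≤ normalizer (fixd E (cj g) : Set G) :=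
        fixd_normalized hBn ((hcj g' hg').2.trans (hnorm _ (hcj g hg).1 (hcj g hg).2))
      have h1 := CfsgLib.Coprime.commutator_sup_centralizer hAn
        (coprime_of_le D (hcj g' hg').2 inf_le_left) (Or.inr (isSolvable_of_le D inf_le_left))
      intro x hx
      rw [← h1] at hx
      revert x
      show ⁅fixd E (cj g), cj g'⁆ ⊔ (fixd E (cj g) ⊓ centralizer (cj g' : Set G)) ≤
        centralizer (fixd E (cj g') : Set G)
      refine sup_le ((commutator_mono inf_le_left le_rfl).trans hcen) ?_
      have h2 : fixd E (cj g ⊔ cj g') = zpowers z := by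
        by_contra hnz
        have ha := hcjmax g hg _ le_sup_left ((hcj g hg).1.trans le_sup_left)
          (sup_le (hcj g hg).2 (hcj g' hg').2) hnz
        have hb := hcjmax g' hg' _ le_sup_right ((hcj g hg).1.trans le_sup_left)
          (sup_le (hcj g hg).2 (hcj g' hg').2) hnz
        exact hne ((le_sup_left.trans hb).antisymm (le_sup_right.trans ha))
      refine le_trans (fun x hx => ?_) (S.zpowers_le_centralizer _)
      rw [← h2]
      refine mem_inf.mpr ⟨hx.1.1, mem_centralizer_iff.mpr fun y hy => ?_⟩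
      have h3 : cj g ⊔ cj g' ≤ centralizer ({x} : Set G) := sup_le
        (fun c hc => mem_centralizer_singleton_iff.mpr (mem_centralizer_iff.mp hx.1.2 c hc))
        (fun c hc => mem_centralizer_singleton_iff.mpr (mem_centralizer_iff.mp hx.2 c hc))
      exact mem_centralizer_singleton_iff.mp (h3 hy)
    have hcj1 : cj 1 = L := by
      ext x
      simp [cj]
    -- spans over orbits
    let span : Subgroup G → Subgroup G := fun Q => zpowers z ⊔ ⨆ g : Q, fixd E (cj g)
    have hspanC : ∀ Q : Subgroup G, Q ≤ P → Compl z E (span Q) := fun Q hQ =>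
      compl_iSup S (fun g : Q => fixd E (cj g))
        (fun g => compl_fixed S ((hcj g (hQ g.2)).2.trans D.kE)
          (D.odd.of_dvd_nat (Subgroup.card_dvd_of_le (hcj g (hQ g.2)).2)))
        fun g g' hne => hcomm g (hQ g.2) g' (hQ g'.2) fun e => hne (congrArg (fixd E) e)
    have hspanK : ∀ Q : Subgroup G, Q ≤ P → K ≤ normalizer (span Q : Set G) := fun Q hQ => by
      refine le_normalizer_of_conj_mem fun a ha x hx => ?_
      have hle : (span Q).map (MulAut.conj a).toMonoidHom ≤ span Q := by
        rw [Subgroup.map_sup, Subgroup.map_iSup]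
        refine sup_le_sup ?_ (iSup_mono fun g => ?_)
        · rintro _ ⟨y, hy, rfl⟩
          exact le_normalizer_apply (S.zpowers_le_normalizer K) ha hy
        · rintro _ ⟨y, hy, rfl⟩
          exact le_normalizer_apply (fixd_normalized D.kE (hnorm _ (hcj g (hQ g.2)).1
            (hcj g (hQ g.2)).2)) ha hy
      exact hle ⟨x, hx, rfl⟩
    have hcjmul : ∀ a g : G, (cj g).map (MulAut.conj a).toMonoidHom = cj (a * g) := fun a g => by
      rw [Subgroup.map_map]
      congr 1
      ext x
      simp [MulAut.conj_apply, mul_assoc]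
    have hspanQ : ∀ Q : Subgroup G, Q ≤ P → Q ≤ normalizer (span Q : Set G) := fun Q hQ => by
      refine le_normalizer_of_conj_mem fun a ha x hx => ?_
      have hle : (span Q).map (MulAut.conj a).toMonoidHom ≤ span Q := by
        rw [Subgroup.map_sup, Subgroup.map_iSup]
        refine sup_le_sup ?_ (iSup_le fun g => ?_)
        · rintro _ ⟨y, hy, rfl⟩
          exact le_normalizer_apply (S.zpowers_le_normalizer Q) ha hy
        · rw [map_fixd (D.pE (hQ ha)), hcjmul]
          exact le_iSup (fun g : Q => fixd E (cj g)) ⟨a * g, mul_mem ha g.2⟩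
      exact hle ⟨x, hx, rfl⟩
    have hLspan : ∀ Q : Subgroup G, span Q ≠ zpowers z := fun Q e => hLfix (by
      refine le_antisymm ?_ (le_inf S.zpowers_le (S.zpowers_le_centralizer L))
      have h1 : fixd E (cj 1) ≤ span Q :=
        le_sup_of_le_right (le_iSup (fun g : Q => fixd E (cj g)) ⟨1, one_mem Q⟩)
      rw [hcj1, e] at h1
      exact h1)
    by_cases hW : span P = E
    swap
    · exact D.good_decomp (hspanC P le_rfl) hW (hLspan P) (hspanK P le_rfl) (hspanQ P le_rfl) IH
    -- an index two subgroup containing the stabilizer of `L`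
    obtain ⟨P₁, hP₁, hidx, hstab⟩ : ∃ P₁ : Subgroup G, P₁ ≤ P ∧ P₁.relIndex P = 2 ∧
        P ⊓ normalizer (L : Set G) ≤ P₁ := by
      let H := (normalizer (L : Set G) : Subgroup G).subgroupOf P
      obtain ⟨a, ha⟩ := IsPGroup.iff_card.mp D.two
      obtain ⟨j, hj⟩ := IsPGroup.iff_card.mp (D.two.to_subgroup H)
      have hjlt : j < a := by
        by_contra hle
        have h1 : H = ⊤ := Subgroup.eq_top_of_le_card H (by
          rw [hj, ha]; exact Nat.pow_le_pow_right two_pos (not_lt.mp hle))
        exact hPL (Subgroup.subgroupOf_eq_top.mp h1)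
      obtain ⟨K₁, hK₁, hHK₁⟩ := Sylow.exists_subgroup_card_pow_prime_le 2 (n := j) (m := a - 1)
        (by rw [ha]; exact Nat.pow_dvd_pow 2 (Nat.sub_le _ _)) H hj (by omega)
      refine ⟨K₁.map P.subtype, map_subtype_le _, ?_, fun x hx => ⟨⟨x, hx.1⟩, hHK₁ hx.2, rfl⟩⟩
      rw [Subgroup.relIndex, Subgroup.subgroupOf, Subgroup.comap_map_eq_self_of_injective
        P.subtype_injective]
      have h1 := Subgroup.card_mul_index K₁
      rw [hK₁, ha, show a = a - 1 + 1 by omega, pow_succ, Nat.add_sub_cancel] at h1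
      exact mul_left_cancel₀ (pow_ne_zero _ two_ne_zero) h1
    obtain ⟨s, hsP, hsP₁⟩ : ∃ s ∈ P, s ∉ P₁ := by
      by_contra h
      push Not at h
      rw [Subgroup.relIndex_eq_one.mpr h] at hidx
      omega
    set W₁ := span P₁ with hW₁def
    set W₂ := W₁.map (MulAut.conj s).toMonoidHom with hW₂
    have hout : ∀ g ∈ P₁, ∀ g' ∈ P₁, cj g ≠ cj (s * g') := by
      intro g hg g' hg' e
      have h1 : g⁻¹ * (s * g') ∈ P ⊓ normalizer (L : Set G) := by
        refine mem_inf.mpr ⟨mul_mem (inv_mem (hP₁ hg)) (mul_mem hsP (hP₁ hg')), ?_⟩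
        have h2 : cj (g⁻¹ * (s * g')) = L := by
          rw [← hcjmul, ← e, hcjmul, inv_mul_cancel, hcj1]
        refine mem_normalizer_iff.mpr fun x => ?_
        conv_rhs => rw [← h2]
        exact (Subgroup.mem_map_iff_mem (MulAut.conj _).injective
          (f := (MulAut.conj (g⁻¹ * (s * g'))).toMonoidHom) (x := x)).symm
      have h3 := mul_mem (mul_mem hg (hstab h1)) (inv_mem hg')
      rw [mul_inv_cancel_left, mul_inv_cancel_right] at h3
      exact hsP₁ h3
    have hW₂le : W₂ ≤ zpowers z ⊔ ⨆ g : P₁, fixd E (cj (s * g)) := by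
      rw [hW₂, hW₁def, Subgroup.map_sup, Subgroup.map_iSup]
      refine sup_le_sup ?_ (iSup_mono fun g => ?_)
      · rintro _ ⟨y, hy, rfl⟩
        exact le_normalizer_apply (S.zpowers_le_normalizer P) hsP hy
      · rw [map_fixd (D.pE hsP), hcjmul]
    have hcomm₁₂ : W₂ ≤ centralizer (W₁ : Set G) := by
      refine hW₂le.trans (sup_le (S.zpowers_le_centralizer _) (iSup_le fun g' => ?_))
      refine le_centralizer_symm (sup_le (S.zpowers_le_centralizer _) (iSup_le fun g => ?_))
      exact hcomm g (hP₁ g.2) _ (mul_mem hsP (hP₁ g'.2)) (hout g g.2 g' g'.2)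
    have hP₁idx : (P₁.subgroupOf P).index = 2 := hidx
    have hsup : W₁ ⊔ W₂ = E := by
      refine le_antisymm (sup_le (hspanC P₁ hP₁).le ?_) ?_
      · rintro _ ⟨y, hy, rfl⟩
        exact le_normalizer_apply D.pE hsP ((hspanC P₁ hP₁).le hy)
      · refine hW.ge.trans (sup_le (le_sup_of_le_left le_sup_left) (iSup_le fun g => ?_))
        by_cases hg : (g : G) ∈ P₁
        · exact le_sup_of_le_left (le_sup_of_le_right
            (le_iSup (fun g : P₁ => fixd E (cj g)) ⟨g, hg⟩))
        · refine le_sup_of_le_right ?_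
          have h1 : s⁻¹ * g ∈ P₁ := by
            have h2 := (Subgroup.mul_mem_iff_of_index_two hP₁idx (a := (⟨s⁻¹, inv_mem hsP⟩ : P))
              (b := g)).mpr
            simp only [mem_subgroupOf, inv_mem_iff] at h2
            exact h2 (by simp [hg, hsP₁])
          rw [show (g : G) = s * (s⁻¹ * g) by group, ← hcjmul, ← map_fixd (D.pE hsP)]
          exact map_mono (le_sup_of_le_right (le_iSup (fun g : P₁ => fixd E (cj g)) ⟨_, h1⟩))
    have hz₁ : z ∈ W₁ := (hspanC P₁ hP₁).mem
    have hAB : ∀ a ∈ W₁, ∀ b ∈ W₂, a * b = b * a := fun a ha b hb =>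
      mem_centralizer_iff.mp (hcomm₁₂ hb) a ha
    have hinf : ∀ x ∈ W₁, x ∈ W₂ → x ∈ zpowers z := by
      intro x hx₁ hx₂
      refine S.mem_zpowers_iff'.mpr (S.center x ((hspanC P₁ hP₁).le hx₁) fun e he => ?_)
      have h1 : W₁ ⊔ W₂ ≤ centralizer ({x} : Set G) :=
        sup_le (fun a ha => mem_centralizer_singleton_iff.mpr (hAB a ha x hx₂))
          (fun b hb => mem_centralizer_singleton_iff.mpr (hAB x hx₁ b hb).symm)
      exact (mem_centralizer_singleton_iff.mp (h1 (hsup.ge he))).symm
    refine good_swap S hsup hz₁ hcomm₁₂ hinf hP₁ hidx hsP hsP₁ hW₂ D.pE (hspanQ P₁ hP₁) D.disj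
      (IH W₁ P₁ K (D.sub (hspanC P₁ hP₁).le hz₁ hsup.ge hAB (hspanK P₁ hP₁) hP₁ (hspanQ P₁ hP₁)) ?_)
    have h1 := card_lt_of_lt hP₁ fun e => hsP₁ (e ▸ hsP)
    have h2 : Nat.card W₁ ≤ Nat.card E := Subgroup.card_le_of_le (hspanC P₁ hP₁).le
    rw [size, size]; omega

end CfsgLib.ExtraExt
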