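import Cfsg.Agent.CharactersDeep.ExtensionCriteria
import Cfsg.Agent.Characters.Classes
import Cfsg.Agent.Coprime.Action

/-!
# Groups of extraspecial shape and their faithful character

* `Setting z E`: `E` is a 2-group with centre `⟨z⟩` of order two and commutators in `⟨z⟩`.
* `val d z`: the faithful irreducible character.
* `Good z E P`: it is the restriction of a character of `E ⊔ P`.
* `Compl z E A`: `A` contains `z` and `E = A (E ∩ C(A))`.
-/

set_option autoImplicit false
set_option linter.style.haveILetI false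
set_option linter.unusedSectionVars false

namespace CfsgLib.ExtraExt

open Subgroup CfsgLib.Characters

universe u

variable {G : Type u} [Group G]

/-- `E` is extraspecial-like over the central involution `z`. -/
structure Setting (z : G) (E : Subgroup G) : Prop where
  mem : z ∈ E
  orderOf_eq : orderOf z = 2
  central : ∀ g : G, g * z = z * g
  isPGroup : IsPGroup 2 E
  comm : ∀ a ∈ E, ∀ b ∈ E, a * b = b * a ∨ a * b = z * (b * a)
  center : ∀ a ∈ E, (∀ b ∈ E, a * b = b * a) → a = 1 ∨ a = z

/-- The faithful character. -/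
noncomputable def val (d : ℕ) (z g : G) : ℂ := by
  classical exact if g = 1 then (d : ℂ) else if g = z then -(d : ℂ) else 0

theorem val_one (d : ℕ) (z : G) : val d z 1 = d := by
  rw [val, if_pos rfl]

theorem val_z (d : ℕ) {z : G} (hz : z ≠ 1) : val d z z = -(d : ℂ) := by
  rw [val, if_neg hz, if_pos rfl]

theorem val_other (d : ℕ) {z g : G} (h₁ : g ≠ 1) (h₂ : g ≠ z) : val d z g = 0 := by
  rw [val, if_neg h₁, if_neg h₂]

theorem val_conj (d : ℕ) {z : G} (hz : ∀ g : G, g * z = z * g) (g x : G) :
    val d z (g * x * g⁻¹) = val d z x := by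
  have h1 : g * x * g⁻¹ = 1 ↔ x = 1 := by rw [mul_inv_eq_one, mul_eq_left]
  have h2 : g * x * g⁻¹ = z ↔ x = z := by
    rw [mul_inv_eq_iff_eq_mul, ← hz g, mul_right_inj]
  rw [val, val]
  classical simp [h1, h2]

/-- The faithful character of `E` is the restriction of a character of `E ⊔ P`. -/
def Good (z : G) (E P : Subgroup G) : Prop :=
  ∃ (d : ℕ) (χ : ↥(E ⊔ P) → ℂ), d ^ 2 * 2 = Nat.card E ∧ Cfsg.IsCharacter ↥(E ⊔ P) χ ∧
    ∀ e : ↥(E ⊔ P), (e : G) ∈ E → χ e = val d z e

namespace Setting

variable {z : G} {E : Subgroup G}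

theorem ne_one (h : Setting z E) : z ≠ 1 := fun e => by
  have := h.orderOf_eq
  rw [e, orderOf_one] at this
  omega

theorem mul_self (h : Setting z E) : z * z = 1 := by
  rw [← sq, ← h.orderOf_eq, pow_orderOf_eq_one]

theorem inv_eq (h : Setting z E) : z⁻¹ = z := inv_eq_of_mul_eq_one_right h.mul_self

theorem central_left (h : Setting z E) (a b : G) : a * (z * b) = z * (a * b) := by
  rw [← mul_assoc, h.central a, mul_assoc]

theorem mem_zpowers_iff' (h : Setting z E) {x : G} : x ∈ zpowers z ↔ x = 1 ∨ x = z := by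
  constructor
  · intro hx
    obtain ⟨k, rfl⟩ := mem_zpowers_iff.mp hx
    rcases Int.even_or_odd k with ⟨m, rfl⟩ | ⟨m, rfl⟩
    · left
      rw [← two_mul, zpow_mul, zpow_two, h.mul_self, one_zpow]
    · right
      rw [zpow_add, zpow_mul, zpow_two, h.mul_self, one_zpow, one_mul, zpow_one]
  · rintro (rfl | rfl)
    exacts [one_mem _, mem_zpowers _]

theorem zpowers_le (h : Setting z E) : zpowers z ≤ E := Subgroup.zpowers_le.mpr h.mem

theorem card_zpowers (h : Setting z E) : Nat.card (zpowers z) = 2 := by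
  rw [Nat.card_zpowers, h.orderOf_eq]

theorem zpowers_le_centralizer (h : Setting z E) (S : Subgroup G) :
    zpowers z ≤ centralizer (S : Set G) :=
  Subgroup.zpowers_le.mpr (mem_centralizer_iff.mpr fun s _ => h.central s)

theorem zpowers_le_normalizer (h : Setting z E) (S : Subgroup G) :
    S ≤ normalizer (zpowers z : Set G) := fun s _ => by
  refine centralizer_le_normalizer _ (mem_centralizer_iff.mpr fun x hx => ?_)
  rcases h.mem_zpowers_iff'.mp hx with rfl | rfl
  · rw [one_mul, mul_one]
  · exact (h.central s).symm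

/-- A subgroup commuting elementwise with a complement inherits the setting. -/
theorem of_commuting (h : Setting z E) {A B : Subgroup G} (hA : A ≤ E) (hz : z ∈ A)
    (hsup : E ≤ A ⊔ B) (hAB : ∀ a ∈ A, ∀ b ∈ B, a * b = b * a) : Setting z A where
  mem := hz
  orderOf_eq := h.orderOf_eq
  central := h.central
  isPGroup := h.isPGroup.to_le hA
  comm a ha b hb := h.comm a (hA ha) b (hA hb)
  center a ha hc := h.center a (hA ha) fun x hx => by
    have hle : A ⊔ B ≤ centralizer ({a} : Set G) :=
      sup_le (fun y hy => mem_centralizer_singleton_iff.mpr (hc y hy).symm)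
        (fun y hy => mem_centralizer_singleton_iff.mpr (hAB a ha y hy).symm)
    exact (mem_centralizer_singleton_iff.mp (hle (hsup hx))).symm

variable [Finite G]

/-- The faithful irreducible characters. -/
theorem eq_val (h : Setting z E) {χ : E → ℂ} (hχ : Cfsg.IsIrrCharacter E χ)
    (hne : χ ⟨z, h.mem⟩ ≠ χ 1) :
    ∃ d : ℕ, d ^ 2 * 2 = Nat.card E ∧ ∀ e : E, χ e = val d z e := by
  classical
  haveI := Fintype.ofFinite E
  obtain ⟨d, ρ, hρ, rfl⟩ := hχ
  haveI := hρ
  set ζ : E := ⟨z, h.mem⟩ with hζ
  have hζc : ∀ g : E, g * ζ = ζ * g := fun g => Subtype.ext (h.central g)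
  obtain ⟨ω, hω⟩ := central_scalar ρ (z := ζ) (mem_center_iff.mpr hζc)
  have hone : ρ.character 1 = (d : ℂ) := by rw [Representation.char_one, Module.finrank_fin_fun]
  have hmul : ∀ g : E, ρ.character (ζ * g) = ω * ρ.character g := fun g => by
    rw [Representation.character, Representation.character, map_mul, hω,
      Module.End.mul_eq_comp, LinearMap.smul_comp, LinearMap.id_comp, map_smul, smul_eq_mul]
  have hζζ : ζ * ζ = 1 := Subtype.ext h.mul_self
  have hω2 : ω * ω = 1 := by
    have h1 := hmul ζ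
    have h2 := hmul 1
    rw [hζζ, hone] at h1
    rw [mul_one, hone] at h2
    rw [h2, ← mul_assoc] at h1
    have hd : (d : ℂ) ≠ 0 := fun e => hne (by rw [h2, hone, e, mul_zero])
    exact mul_right_cancel₀ hd (h1.symm.trans (one_mul _).symm)
  have hω1 : ω ≠ 1 := fun e => hne (by
    have h2 := hmul 1
    rw [mul_one, e, one_mul] at h2
    exact h2)
  have hωm : ω = -1 := by
    rcases mul_self_eq_one_iff.mp hω2 with e | e
    exacts [absurd e hω1, e]
  subst hωm
  have hout : ∀ e : E, (e : G) ≠ 1 → (e : G) ≠ z → ρ.character e = 0 := by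
    intro e he1 hez
    obtain ⟨b, hb⟩ : ∃ b : E, (e : G) * b ≠ b * e := by
      by_contra hall
      push Not at hall
      rcases h.center e e.2 (fun b hb => hall ⟨b, hb⟩) with e' | e'
      exacts [he1 e', hez e']
    have heb := (h.comm e e.2 b b.2).resolve_left hb
    have h1 : b⁻¹ * e * b = ζ * e := by
      refine Subtype.ext ?_
      show (b : G)⁻¹ * e * b = z * e
      rw [mul_assoc, heb, h.central_left, inv_mul_cancel_left]
    have h2 : ρ.character (b⁻¹ * e * b) = ρ.character e := by
      have := Representation.char_conj ρ e b⁻¹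
      rwa [inv_inv] at this
    rw [h1, hmul] at h2
    linear_combination (-(1 : ℂ) / 2) * h2
  have hval : ∀ e : E, ρ.character e = val d z e := by
    intro e
    by_cases he1 : (e : G) = 1
    · rw [he1, val_one, show e = 1 from Subtype.ext he1, hone]
    by_cases hez : (e : G) = z
    · rw [hez, val_z _ h.ne_one, show e = ζ * 1 from by rw [mul_one]; exact Subtype.ext hez,
        hmul, hone, neg_one_mul]
    · rw [hout e he1 hez, val_other _ he1 hez]
  refine ⟨d, ?_, hval⟩
  have h1 := classInner_isIrr_self (isIrrCharacter_character ρ)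
  rw [Cfsg.classInner] at h1
  rw [Finset.sum_eq_add (1 : E) ζ (fun e => h.ne_one (congrArg Subtype.val e).symm)
    (fun e _ he => by
      rw [hout e (fun e' => he.1 (Subtype.ext e')) (fun e' => he.2 (Subtype.ext e')), zero_mul])
    (fun hx => absurd (Finset.mem_univ _) hx) (fun hx => absurd (Finset.mem_univ _) hx),
    hval 1, hval ζ, OneMemClass.coe_one, val_one, hζ, val_z _ h.ne_one] at h1
  simp only [map_neg, Complex.conj_natCast, mul_neg, neg_mul, neg_neg] at h1
  rw [inv_mul_eq_one₀ (Nat.cast_ne_zero.2 Nat.card_pos.ne')] at h1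
  have : ((Nat.card E : ℕ) : ℂ) = ((d ^ 2 * 2 : ℕ) : ℂ) := by
    rw [h1]
    push_cast
    ring
  exact_mod_cast this.symm

theorem exists_irr (h : Setting z E) :
    ∃ χ : E → ℂ, Cfsg.IsIrrCharacter E χ ∧ χ ⟨z, h.mem⟩ ≠ χ 1 := by
  classical
  haveI := Fintype.ofFinite E
  by_contra hall
  push Not at hall
  have hz : (⟨z, h.mem⟩ : E) = 1 := by
    refine isConj_one_left.mp (isConj_of_irr_eq fun χ => ?_)
    exact hall χ.1 χ.2
  exact h.ne_one (congrArg Subtype.val hz)

end Setting

/-- `A` is complemented in `E` by its centralizer. -/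
structure Compl (z : G) (E A : Subgroup G) : Prop where
  mem : z ∈ A
  le : A ≤ E
  sup : E ≤ A ⊔ (E ⊓ centralizer (A : Set G))

theorem inf_centralizer_le_normalizer {E A : Subgroup G} :
    E ⊓ centralizer (A : Set G) ≤ normalizer (A : Set G) :=
  inf_le_right.trans (centralizer_le_normalizer _)

theorem Compl.exists_eq {z : G} {E A : Subgroup G} (h : Compl z E A) {e : G} (he : e ∈ E) :
    ∃ a ∈ A, ∃ c ∈ E ⊓ centralizer (A : Set G), a * c = e := by
  have := h.sup he
  rw [← SetLike.mem_coe,
    coe_mul_of_right_le_normalizer_left A _ inf_centralizer_le_normalizer] at this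
  exact this

theorem Compl.sup_of_commute {z : G} {E A B : Subgroup G} (hA : Compl z E A) (hB : Compl z E B)
    (h : B ≤ centralizer (A : Set G)) : Compl z E (A ⊔ B) := by
  refine ⟨mem_sup_left hA.mem, sup_le hA.le hB.le, fun e he => ?_⟩
  obtain ⟨a, ha, c, hc, rfl⟩ := hA.exists_eq he
  obtain ⟨b, hb, c', hc', rfl⟩ := hB.exists_eq hc.1
  rw [← mul_assoc]
  refine mul_mem (mem_sup_left (mul_mem (mem_sup_left ha) (mem_sup_right hb)))
    (mem_sup_right ⟨hc'.1, ?_⟩)
  have h1 : c' ∈ centralizer (A : Set G) := by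
    have := mul_mem (inv_mem (h hb)) hc.2
    rwa [inv_mul_cancel_left] at this
  have h2 : A ⊔ B ≤ centralizer ({c'} : Set G) :=
    sup_le (fun x hx => mem_centralizer_singleton_iff.mpr (mem_centralizer_iff.mp h1 x hx))
      (fun x hx => mem_centralizer_singleton_iff.mpr (mem_centralizer_iff.mp hc'.2 x hx))
  exact mem_centralizer_iff.mpr fun x hx => mem_centralizer_singleton_iff.mp (h2 hx)

theorem compl_zpowers {z : G} {E : Subgroup G} (h : Setting z E) : Compl z E (zpowers z) :=
  ⟨mem_zpowers z, h.zpowers_le, fun e he => mem_sup_right ⟨he, mem_centralizer_iff.mpr fun x hx => by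
    rcases h.mem_zpowers_iff'.mp hx with rfl | rfl
    · rw [one_mul, mul_one]
    · exact (h.central e).symm⟩⟩

theorem le_centralizer_symm {A B : Subgroup G} (h : B ≤ centralizer (A : Set G)) :
    A ≤ centralizer (B : Set G) :=
  fun a ha => mem_centralizer_iff.mpr fun b hb => (mem_centralizer_iff.mp (h hb) a ha).symm

/-- Pairwise commuting complemented subgroups generate a complemented subgroup. -/
theorem compl_iSup {z : G} {E : Subgroup G} (h : Setting z E) {ι : Type*} [Finite ι]
    (A : ι → Subgroup G) (hA : ∀ i, Compl z E (A i))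
    (hc : ∀ i j, A i ≠ A j → A i ≤ centralizer (A j : Set G)) :
    Compl z E (zpowers z ⊔ ⨆ i, A i) := by
  classical
  haveI := Fintype.ofFinite ι
  suffices hs : ∀ s : Finset (Subgroup G), (∀ X ∈ s, ∃ i, A i = X) →
      Compl z E (zpowers z ⊔ s.sup id) by
    have h1 := hs (Finset.univ.image A) fun X hX => by
      obtain ⟨i, -, e⟩ := Finset.mem_image.mp hX
      exact ⟨i, e⟩
    rwa [Finset.sup_image, Function.id_comp, Finset.sup_univ_eq_iSup] at h1
  intro s
  induction s using Finset.induction_on with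
  | empty => intro; simpa using compl_zpowers h
  | @insert X s hX ih =>
    intro hmem
    obtain ⟨i, rfl⟩ := hmem X (Finset.mem_insert_self _ _)
    have hih := ih fun Y hY => hmem Y (Finset.mem_insert_of_mem hY)
    rw [Finset.sup_insert, id, ← sup_assoc, sup_comm (zpowers z), sup_assoc]
    refine (hA i).sup_of_commute hih (sup_le (h.zpowers_le_centralizer _) (Finset.sup_le fun Y hY => ?_))
    obtain ⟨j, rfl⟩ := hmem Y (Finset.mem_insert_of_mem hY)
    exact hc j i fun e => hX (e ▸ hY)

/-- Coprime action: a centralizer in `E` is complemented by the commutator subgroup. -/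
theorem fixed_commutes {z : G} {E B : Subgroup G} (h : Setting z E)
    (hB : B ≤ normalizer (E : Set G)) :
    E ⊓ centralizer (B : Set G) ≤ centralizer ((⁅E, B⁆ : Subgroup G) : Set G) := by
  refine le_centralizer_symm ?_
  rw [commutator_le]
  intro e he b hb
  rw [mem_centralizer_iff]
  rintro c ⟨hc, hcB⟩
  have hcb : b * c = c * b := mem_centralizer_iff.mp hcB b hb
  have hcb' : b⁻¹ * c = c * b⁻¹ := (Commute.inv_left (show Commute b c from hcb)).eq
  have he' : b * e * b⁻¹ ∈ E := (mem_normalizer_iff.mp (hB hb) e).mp he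
  have hconj : b * (c * e) * b⁻¹ = c * (b * e * b⁻¹) := by
    rw [← mul_assoc, hcb]; group
  have hconj' : b * (e * c) * b⁻¹ = b * e * b⁻¹ * c := by
    rw [show b * (e * c) * b⁻¹ = b * e * (c * b⁻¹) by group, ← hcb']; group
  rw [commutatorElement_def, show e * b * e⁻¹ * b⁻¹ = e * (b * e * b⁻¹)⁻¹ by group]
  set f := b * e * b⁻¹ with hf
  rcases h.comm c hc e he with h1 | h1
  · have h2 : c * f = f * c := by rw [← hconj, h1, hconj']
    exact ((show Commute c e from h1).mul_right (Commute.inv_right h2)).eq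
  · have h2 : c * f = z * (f * c) := by
      rw [← hconj, h1, h.central_left, mul_assoc, hconj']
    calc c * (e * f⁻¹) = c * e * f⁻¹ := (mul_assoc _ _ _).symm
      _ = z * (e * c) * f⁻¹ := by rw [h1]
      _ = e * (z * c) * f⁻¹ := by rw [h.central_left, mul_assoc]
      _ = e * (f⁻¹ * (c * f)) * f⁻¹ := by rw [h2, h.central_left f⁻¹, inv_mul_cancel_left]
      _ = e * f⁻¹ * c := by group

theorem commutator_le_self {E B : Subgroup G} (hB : B ≤ normalizer (E : Set G)) : ⁅E, B⁆ ≤ E :=
  CfsgLib.Coprime.commutator_le_of_le_normalizer hB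

theorem compl_fixed [Finite G] {z : G} {E B : Subgroup G} (h : Setting z E)
    (hB : B ≤ normalizer (E : Set G)) (hodd : Odd (Nat.card B)) :
    Compl z E (E ⊓ centralizer (B : Set G)) := by
  refine ⟨⟨h.mem, h.zpowers_le_centralizer B (mem_zpowers z)⟩, inf_le_left, ?_⟩
  haveI : Fact (Nat.Prime 2) := ⟨Nat.prime_two⟩
  obtain ⟨n, hn⟩ := IsPGroup.iff_card.mp h.isPGroup
  have hcop : (Nat.card B).Coprime (Nat.card E) := by
    rw [hn]
    exact (Nat.coprime_two_right.mpr hodd).pow_right n
  have hsolv : Group.IsSolvable B ∨ Group.IsSolvable E := by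
    refine Or.inr ?_
    haveI := h.isPGroup.isNilpotent
    infer_instance
  calc E = ⁅E, B⁆ ⊔ (E ⊓ centralizer (B : Set G)) :=
        (CfsgLib.Coprime.commutator_sup_centralizer hB hcop hsolv).symm
    _ ≤ _ := sup_le (le_sup_of_le_right (le_inf (commutator_le_self hB)
        (le_centralizer_symm (fixed_commutes h hB)))) le_sup_left

end CfsgLib.ExtraExt
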